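import Cfsg.Agent.Lib.HNRec.Basic

/-!
# The normalised exchange

`D = C(t) ∩ C(c)` is `<t, c>` times an alternating group of degree eight generated by the values of `dWordOne`
and `dWordTwo`.  The normalised exchange acts on the latter as conjugation by `a`.
-/

set_option autoImplicit false

namespace CfsgLib.HNRec

open CfsgLib.HNxyz

variable {G : Type} [Group G]

/-- The first generator of the alternating part of `D`. -/
def dWordOne : List ℕ := [3, 1, 3, 1, 2, 1, 2, 1, 2, 0, 3, 0, 2, 2, 0, 2, 2, 2, 0, 3]

/-- The second generator of the alternating part of `D`. -/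
def dWordTwo : List ℕ := [1, 3, 1, 2, 2, 1, 3, 1, 3, 4, 3, 0, 2, 2, 4, 2, 0, 2, 0]

/-- The image of the first generator under the exchange. -/
def dImgOne : List ℕ := [3, 1, 2, 1, 3, 3, 1, 2, 2, 1, 2, 0, 2, 0, 3, 0, 3, 3, 0, 3]

/-- The image of the second generator under the exchange. -/
def dImgTwo : List ℕ := [3, 1, 2, 2, 1, 3, 1, 3, 4, 3, 0, 2, 2, 4, 2, 0, 2]

/-- An involution exchanging `t` and `c` which acts on the alternating part of `D` as `a` does. -/
structure NExchange (t a b c n : G) : Prop where
  sq : n * n = 1
  swap : n * t * n = c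
  cube : (n * a) ^ 3 = 1
  img_one : n * evalW (elt a b c) dWordOne * n = evalW (elt a b c) dImgOne
  img_two : n * evalW (elt a b c) dWordTwo * n = evalW (elt a b c) dImgTwo

/-- The exchange can be normalised. -/
def NormalSpec : Prop :=
  ∀ (G : Type) [Group G] [Finite G] (t a b c : G), Coord t a b c → Exchange t c → ∃ n : G, NExchange t a b c n

end CfsgLib.HNRec
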