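import Cfsg.Agent.Lib.HNRec.Normal.Split

/-!
# Normalisation of the exchange

Any element exchanging `t` and `c` induces an odd permutation on the alternating part of
`C(t) ∩ C(c)`, so it can be corrected to an involution acting as `a`.
-/

set_option autoImplicit false
set_option maxHeartbeats 2000000

namespace CfsgLib.HNRec.Normal

open CfsgLib.HNxyz CfsgLib.HNIndex Equiv
open CfsgLib.Presentations.Carmichael

/-- The exchange can be normalised. -/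
theorem normalSpec : NormalSpec := by
  intro G _ _ t a b c hK ⟨n₀, hn1, hn2⟩
  have B := basics hK
  obtain ⟨-, -, -, hg1, hg2, hi1, hi2, -, -, -, -, -, -, -, -⟩ := word_checks
  obtain ⟨ι, hinj, hι, crels, hD, hA⟩ := exists_alt8 hK
  have h01 : (0 : Fin 8) ≠ 1 := by decide
  let V : Fin 4 → G := four t c
  -- the permutation induced by the exchange
  have hnD : ∀ g ∈ dSub t c, n₀ * g * n₀⁻¹ ∈ dSub t c := by
    intro g hg
    obtain ⟨e1, e2⟩ := mem_dSub.1 hg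
    refine mem_dSub.2 ⟨?_, ?_⟩
    · rw [← hn2, show n₀ * g * n₀⁻¹ * (n₀ * c * n₀⁻¹) = n₀ * (g * c) * n₀⁻¹ by group, e2]; group
    · rw [← hn1, show n₀ * g * n₀⁻¹ * (n₀ * t * n₀⁻¹) = n₀ * (g * t) * n₀⁻¹ by group, e1]; group
  have hgen : ∀ i, n₀ * ι (gen h01 i) * n₀⁻¹ ∈ ι.range := by
    intro i
    obtain ⟨k, x, hx⟩ := decomp ι hK B hinj hD _ (hnD _ (hD (gen h01 i)))
    have h3 : (V k * ι x) ^ 3 = 1 := by
      rw [← hx, show (n₀ * ι (gen h01 i) * n₀⁻¹) ^ 3 = n₀ * ι (gen h01 i) ^ 3 * n₀⁻¹ from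
        (map_pow (MulAut.conj n₀).toMonoidHom _ 3).symm, hι, crels.cube]
      group
    rw [Commute.mul_pow (four_comm k (hD x)), show V k ^ 3 = V k by rw [pow_succ, pow_two, four_sq B, one_mul],
      ← map_pow, mul_eq_one_iff_eq_inv, ← map_inv] at h3
    obtain ⟨rfl, -⟩ := four_meet ι hK B hinj hD h3
    exact ⟨x, by rw [hx]; exact (one_mul _).symm⟩
  have hall : ∀ x, n₀ * ι x * n₀⁻¹ ∈ ι.range := by
    intro x
    have hx : x ∈ Subgroup.closure (Set.range (gen h01 : Idx (0 : Fin 8) 1 → alternatingGroup (Fin 8))) := by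
      rw [gen_closure h01]; trivial
    induction hx using Subgroup.closure_induction with
    | mem x hx => obtain ⟨i, rfl⟩ := hx; exact hgen i
    | one => simp
    | mul x y _ _ hx hy =>
      rw [map_mul, show n₀ * (ι x * ι y) * n₀⁻¹ = (n₀ * ι x * n₀⁻¹) * (n₀ * ι y * n₀⁻¹) by group]
      exact mul_mem hx hy
    | inv x _ hx =>
      rw [map_inv, show n₀ * (ι x)⁻¹ * n₀⁻¹ = (n₀ * ι x * n₀⁻¹)⁻¹ by group]
      exact inv_mem hx
  let φ : alternatingGroup (Fin 8) →* alternatingGroup (Fin 8) :=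
    (MonoidHom.ofInjective hinj).symm.toMonoidHom.comp
      (((MulAut.conj n₀).toMonoidHom.comp ι).codRestrict ι.range hall)
  have hφ : ∀ x, ι (φ x) = n₀ * ι x * n₀⁻¹ := fun x => by
    have := (MonoidHom.ofInjective hinj).apply_symm_apply ⟨n₀ * ι x * n₀⁻¹, hall x⟩
    exact congrArg Subtype.val this
  have hφi : Function.Injective φ := fun x y h => by
    have e := congrArg ι h
    rw [hφ, hφ] at e
    exact hinj (mul_left_cancel (mul_right_cancel e))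
  obtain ⟨p, hp⟩ := (CfsgLib.Known.AltAut.bijective_conjNormal (n := 8) (by decide) (by decide)).2
    (MulEquiv.ofBijective φ (Finite.injective_iff_bijective.1 hφi))
  have hN : ∀ x, n₀ * ι x * n₀⁻¹ = ι (MulAut.conjNormal p x) := fun x => by
    rw [← hφ, hp]; rfl
  -- it is odd
  have hodd : Perm.sign p = Perm.sign piA := by
    set k := n₀ * a with hk
    have k1 : k * t * k⁻¹ = c := by
      rw [hk, show n₀ * a * t * (n₀ * a)⁻¹ = n₀ * (a * t * a⁻¹) * n₀⁻¹ by group, B.ta, hn1]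
    have k2 : k * c * k⁻¹ = c * t := by
      rw [hk, show n₀ * a * c * (n₀ * a)⁻¹ = n₀ * (a * c * a⁻¹) * n₀⁻¹ by group, B.ac,
        show n₀ * (t * c) * n₀⁻¹ = (n₀ * t * n₀⁻¹) * (n₀ * c * n₀⁻¹) by group, hn1, hn2]
    have k3 : k * (c * t) * k⁻¹ = t := by
      rw [show k * (c * t) * k⁻¹ = (k * c * k⁻¹) * (k * t * k⁻¹) by group, k1, k2, mul_assoc, B.tc,
        ← mul_assoc, B.cc, one_mul]
    have c1 : k ^ 3 * t = t * k ^ 3 := by
      rw [← mul_inv_eq_iff_eq_mul,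
        show k ^ 3 * t * (k ^ 3)⁻¹ = k * (k * (k * t * k⁻¹) * k⁻¹) * k⁻¹ by rw [pow_succ, pow_two]; group, k1, k2, k3]
    have c2 : k ^ 3 * c = c * k ^ 3 := by
      rw [← mul_inv_eq_iff_eq_mul,
        show k ^ 3 * c * (k ^ 3)⁻¹ = k * (k * (k * c * k⁻¹) * k⁻¹) * k⁻¹ by rw [pow_succ, pow_two]; group, k2, k3, k1]
    obtain ⟨v, x₀, hx₀⟩ := decomp ι hK B hinj hD _ (mem_dSub.2 ⟨c1, c2⟩)
    have hconj : ∀ x, k * ι x * k⁻¹ = ι (MulAut.conjNormal (p * piA) x) := fun x => by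
      rw [hk, show n₀ * a * ι x * (n₀ * a)⁻¹ = n₀ * (a * ι x * a⁻¹) * n₀⁻¹ by group, hA, hN, map_mul,
        MulAut.mul_apply]
    have he : (p * piA) ^ 3 = (x₀ : Perm (Fin 8)) := by
      refine perm_ext fun x => hinj ?_
      have e1 : ι (MulAut.conjNormal ((p * piA) ^ 3) x) = k ^ 3 * ι x * (k ^ 3)⁻¹ := by
        rw [show k ^ 3 * ι x * (k ^ 3)⁻¹ = k * (k * (k * ι x * k⁻¹) * k⁻¹) * k⁻¹ by rw [pow_succ, pow_two]; group, hconj, hconj,
          hconj, pow_succ, pow_two, map_mul, map_mul, MulAut.mul_apply, MulAut.mul_apply]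
      rw [e1, hx₀, conj_val, map_mul, map_mul, map_inv,
        show V v * ι x₀ * ι x * (V v * ι x₀)⁻¹ = V v * (ι x₀ * ι x * (ι x₀)⁻¹) * (V v)⁻¹ by group,
        ← map_inv, ← map_mul, ← map_mul, four_comm v (hD _), mul_inv_cancel_right]
    have hs := congrArg Perm.sign he
    rw [Equiv.Perm.mem_alternatingGroup.1 x₀.2, map_pow, map_mul] at hs
    rcases Int.units_eq_one_or (Perm.sign p) with h | h <;>
      rcases Int.units_eq_one_or (Perm.sign piA) with h' | h' <;> rw [h, h'] at hs ⊢ <;>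
        first | rfl | exact absurd hs (by decide)
  let δ : alternatingGroup (Fin 8) := ⟨p⁻¹ * piA, by
    rw [Equiv.Perm.mem_alternatingGroup, map_mul, map_inv, hodd, inv_mul_cancel]⟩
  set n₁ := n₀ * ι δ with hn₁
  obtain ⟨dt, dc⟩ := mem_dSub.1 (hD δ)
  have m1 : n₁ * t * n₁⁻¹ = c := by
    rw [hn₁, show n₀ * ι δ * t * (n₀ * ι δ)⁻¹ = n₀ * (ι δ * t * (ι δ)⁻¹) * n₀⁻¹ by group, dt,
      mul_inv_cancel_right, hn1]
  have m2 : n₁ * c * n₁⁻¹ = t := by
    rw [hn₁, show n₀ * ι δ * c * (n₀ * ι δ)⁻¹ = n₀ * (ι δ * c * (ι δ)⁻¹) * n₀⁻¹ by group, dc,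
      mul_inv_cancel_right, hn2]
  have mA : ∀ x, n₁ * ι x * n₁⁻¹ = ι (MulAut.conjNormal piA x) := fun x => by
    rw [hn₁, show n₀ * ι δ * ι x * (n₀ * ι δ)⁻¹ = n₀ * (ι δ * ι x * (ι δ)⁻¹) * n₀⁻¹ by group,
      ← map_inv, ← map_mul, ← map_mul, hN]
    refine congrArg ι (Subtype.ext ?_)
    simp [MulAut.conjNormal_apply, δ, mul_assoc]
  have hpp : piA * piA = 1 := swap_mul_self _ _
  have mAA : ∀ x, ι (MulAut.conjNormal piA (MulAut.conjNormal piA x)) = ι x := fun x => by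
    rw [← MulAut.mul_apply, ← map_mul, hpp, map_one, MulAut.one_apply]
  have central : ∀ g ∈ dSub t c, (∀ x, g * ι x * g⁻¹ = ι x) → ∃ k, g = V k := fun g hg hc =>
    central_mem ι hK B hinj hD hg hc
  -- square
  obtain ⟨k, hk⟩ := central (n₁ * n₁) (mem_dSub.2 ⟨by
      rw [← mul_inv_eq_iff_eq_mul, show n₁ * n₁ * t * (n₁ * n₁)⁻¹ = n₁ * (n₁ * t * n₁⁻¹) * n₁⁻¹ by group,
        m1, m2], by
      rw [← mul_inv_eq_iff_eq_mul, show n₁ * n₁ * c * (n₁ * n₁)⁻¹ = n₁ * (n₁ * c * n₁⁻¹) * n₁⁻¹ by group,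
        m2, m1]⟩) (fun x => by
      rw [show n₁ * n₁ * ι x * (n₁ * n₁)⁻¹ = n₁ * (n₁ * ι x * n₁⁻¹) * n₁⁻¹ by group, mA, mA, mAA])
  have hfix : n₁ * V k * n₁⁻¹ = V k := by rw [← hk]; group
  have hct : c * t * c = t := by rw [mul_assoc, B.tc, ← mul_assoc, B.cc, one_mul]
  obtain ⟨n, hsq, hnt, hnA⟩ : ∃ n, n * n = 1 ∧ n * t * n⁻¹ = c ∧
      ∀ x, n * ι x * n⁻¹ = ι (MulAut.conjNormal piA x) := by
    fin_cases k
    · exact ⟨n₁, hk, m1, mA⟩
    · exact absurd ((show c = t from m1.symm.trans hfix)) B.ct_ne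
    · exact absurd ((show t = c from m2.symm.trans hfix)) B.ct_ne.symm
    · refine ⟨n₁ * t, ?_, ?_, fun x => ?_⟩
      · rw [show n₁ * t * (n₁ * t) = (n₁ * t * n₁⁻¹) * (n₁ * n₁) * t by group, m1, hk]
        show c * (t * c) * t = 1
        rw [← mul_assoc, hct, B.tt]
      · rw [show n₁ * t * t * (n₁ * t)⁻¹ = n₁ * (t * t * t⁻¹) * n₁⁻¹ by group, mul_inv_cancel_right, m1]
      · rw [show n₁ * t * ι x * (n₁ * t)⁻¹ = n₁ * (t * ι x * t⁻¹) * n₁⁻¹ by group, ← (mem_dSub.1 (hD x)).1,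
          mul_inv_cancel_right, mA]
  have hni : n⁻¹ = n := inv_eq_of_mul_eq_one_right hsq
  have hnc : n * c * n⁻¹ = t := by
    rw [← hnt, hni, show n * (n * t * n) * n = (n * n) * t * (n * n) by group, hsq]; group
  -- the cube
  have j1 : n * a * t * (n * a)⁻¹ = c := by
    rw [show n * a * t * (n * a)⁻¹ = n * (a * t * a⁻¹) * n⁻¹ by group, B.ta, hnt]
  have j2 : n * a * c * (n * a)⁻¹ = c * t := by
    rw [show n * a * c * (n * a)⁻¹ = n * (a * c * a⁻¹) * n⁻¹ by group, B.ac,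
      show n * (t * c) * n⁻¹ = (n * t * n⁻¹) * (n * c * n⁻¹) by group, hnt, hnc]
  have j3 : n * a * (c * t) * (n * a)⁻¹ = t := by
    rw [show n * a * (c * t) * (n * a)⁻¹ = (n * a * c * (n * a)⁻¹) * (n * a * t * (n * a)⁻¹) by group,
      j1, j2, hct]
  have jA : ∀ x, n * a * ι x * (n * a)⁻¹ = ι x := fun x => by
    rw [show n * a * ι x * (n * a)⁻¹ = n * (a * ι x * a⁻¹) * n⁻¹ by group, hA, hnA, mAA]
  set j := n * a with hj
  obtain ⟨v, hv⟩ := central (j ^ 3) (mem_dSub.2 ⟨by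
      rw [← mul_inv_eq_iff_eq_mul,
        show j ^ 3 * t * (j ^ 3)⁻¹ = j * (j * (j * t * j⁻¹) * j⁻¹) * j⁻¹ by rw [pow_succ, pow_two]; group, j1, j2, j3], by
      rw [← mul_inv_eq_iff_eq_mul,
        show j ^ 3 * c * (j ^ 3)⁻¹ = j * (j * (j * c * j⁻¹) * j⁻¹) * j⁻¹ by rw [pow_succ, pow_two]; group, j2, j3, j1]⟩)
    (fun x => by
      rw [show j ^ 3 * ι x * (j ^ 3)⁻¹ = j * (j * (j * ι x * j⁻¹) * j⁻¹) * j⁻¹ by rw [pow_succ, pow_two]; group, jA, jA, jA])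
  have hfix3 : j * V v * j⁻¹ = V v := by rw [← hv]; group
  refine ⟨n, hsq, ?_, ?_, ?_, ?_⟩
  · have := hnt; rwa [hni] at this
  · rw [hv]
    fin_cases v
    · rfl
    · exact absurd (show c = t from j1.symm.trans hfix3) B.ct_ne
    · exact absurd (show c * t = c from j2.symm.trans hfix3) (by simpa using hK.ne)
    · have h3 : j * (t * c) * j⁻¹ = t * c := hfix3
      rw [B.tc, j3] at h3
      refine absurd ?_ B.c_ne
      calc c = c * (t * t) := by rw [B.tt, mul_one]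
        _ = c * t * t := by rw [mul_assoc]
        _ = t * t := by rw [← h3]
        _ = 1 := B.tt
  all_goals conv_lhs => arg 2; rw [← hni]
  · rw [← ev_same hK hg1, prod_seq ι hι seq_lt.1, hnA, ← hA, ← prod_seq ι hι seq_lt.1, ev_same hK hg1,
      ← ev_same hK hi1]
    simp [evalW, elt, mul_assoc]
  · rw [← ev_same hK hg2, prod_seq ι hι seq_lt.2, hnA, ← hA, ← prod_seq ι hι seq_lt.2, ev_same hK hg2,
      ← ev_same hK hi2]
    simp [evalW, elt, mul_assoc]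

end CfsgLib.HNRec.Normal
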