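import Cfsg.Agent.Lib.HNRec.Normal.Checks
import Cfsg.Agent.Lib.HNRec.Fusion.Classes
import Cfsg.Agent.Lib.Presentations.AltCarmichael

/-!
# The alternating group inside the common centraliser

`D = C(t) ∩ C(c)` is `<t, c>` times an alternating group of degree eight (2200 conjugates of `c` in `C(t)`
give the bound on its order).  Any element exchanging `t` and `c` induces an odd permutation there, so it
can be corrected to an involution acting as `a`.
-/

set_option autoImplicit false
set_option maxRecDepth 100000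
set_option maxHeartbeats 4000000

namespace CfsgLib.HNRec.Normal

open CfsgLib.HNxyz CfsgLib.HNIndex Equiv
open CfsgLib.Presentations.Carmichael

variable {G : Type} [Group G] {t a b c : G}

theorem ev_same (hK : Coord t a b c) {u v : List ℕ} (h : same u v = true) :
    evalW (elt a b c) u = evalW (elt a b c) v := eq_of_same hK.rels h

theorem lt_of_same {u v : List ℕ} (h : ((u.all fun g => Nat.blt g 6) && v.all fun g => Nat.blt g 6) = true) :
    (∀ g ∈ u, g < 6) ∧ ∀ g ∈ v, g < 6 := by
  simpa [List.all_eq_true] using h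

theorem img_eq_of_ev (hK : Coord t a b c) {u v : List ℕ} (hu : ∀ g ∈ u, g < 6) (hv : ∀ g ∈ v, g < 6)
    (e : evalW (elt a b c) u = evalW (elt a b c) v) {p : ℕ} (hp : p < 1408) : img u p = img v p := by
  have e1 : mW a b c u = mW a b c v := Fusion.pr_inj hK (by rw [pr_mW, pr_mW, e])
  have e2 := congrArg (rho a b c) e1
  rw [rho_mW, rho_mW] at e2
  rw [← img_spec hu ⟨p, hp⟩, ← img_spec hv ⟨p, hp⟩, e2]

theorem base_lt : ∀ p ∈ base, p < 1408 := by decide

theorem ev_differ (hK : Coord t a b c) {u v : List ℕ}
    (hl : ((u.all fun g => Nat.blt g 6) && v.all fun g => Nat.blt g 6) = true) (h : same u v = false) :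
    evalW (elt a b c) u ≠ evalW (elt a b c) v := by
  intro e
  obtain ⟨hu, hv⟩ := lt_of_same hl
  have : same u v = true := by
    simp only [same, Bool.and_eq_true, List.all_eq_true, Nat.blt_eq, Nat.beq_eq]
    exact ⟨⟨hu, hv⟩, fun p hp => img_eq_of_ev hK hu hv e (base_lt p hp)⟩
  simp [this] at h

theorem evalW_inv' {w : List ℕ} (hw : ∀ g ∈ w, g < 6) :
    evalW (elt a b c) (HNxyz.invW w) = (evalW (elt a b c) w)⁻¹ := by
  have h := act_invW (gen := gen3 a b c) (ng := 6) (fun g hg => gen3_partner a b c g hg) hw
  rw [act_gen3, act_gen3, inv_inj] at h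
  exact h

theorem seqW_eval (s : List ℕ) :
    evalW (elt a b c) (seqW s) = (s.map fun i => evalW (elt a b c) (yW i)).prod := by
  induction s with
  | nil => rfl
  | cons i s ih =>
    rw [seqW, List.map_cons, List.flatten_cons, evalW_append, List.map_cons, List.prod_cons, ← ih]
    rfl

/-- The elementary facts about the two involutions and the first generator. -/
structure Basics (t a c : G) : Prop where
  tt : t * t = 1
  cc : c * c = 1
  tc : t * c = c * t
  ta : a * t * a⁻¹ = t
  ac : a * c * a⁻¹ = t * c
  aa : a * a = t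
  c_ne : c ≠ 1
  ct_ne : c ≠ t

theorem basics (hK : Coord t a b c) : Basics t a c := by
  obtain ⟨-, -, -, -, -, -, -, h44, h004, h041, h0000, n1, n2, -, -⟩ := word_checks
  have w00 : evalW (elt a b c) [0, 0] = t := by simp [evalW, elt, hK.sq]
  have tt : t * t = 1 := by
    have := ev_same hK h0000
    rw [show ([0, 0, 0, 0] : List ℕ) = [0, 0] ++ [0, 0] from rfl, evalW_append, w00, evalW_nil] at this
    exact this
  refine ⟨tt, ?_, ?_, ?_, ?_, hK.sq, ?_, ?_⟩
  · simpa [evalW, elt] using ev_same hK h44
  · simpa [evalW, elt, ← hK.sq, mul_assoc] using ev_same hK h004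
  · rw [← hK.sq]; group
  · simpa [evalW, elt, ← hK.sq, mul_assoc] using ev_same hK h041
  · intro e
    exact ev_differ hK (by decide) n1 (by simpa [evalW, elt] using e)
  · intro e
    exact ev_differ hK (by decide) n2 (by simpa [evalW, elt, ← hK.sq] using e)

/-- The common centraliser of the two involutions. -/
def dSub (t c : G) : Subgroup G :=
  Subgroup.centralizer ({t} : Set G) ⊓ Subgroup.centralizer ({c} : Set G)

theorem mem_dSub {t c g : G} : g ∈ dSub t c ↔ g * t = t * g ∧ g * c = c * g := by
  simp [dSub, Subgroup.mem_centralizer_singleton_iff]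

theorem incr_inj : ∀ {l : List ℕ}, incr l = true → l.Pairwise (· < ·)
  | [], _ => List.Pairwise.nil
  | [_], _ => List.pairwise_singleton _ _
  | p :: q :: l, h => by
    rw [incr, Bool.and_eq_true, Nat.blt_eq] at h
    have ih := incr_inj (l := q :: l) h.2
    refine List.pairwise_cons.2 ⟨fun r hr => ?_, ih⟩
    rcases List.mem_cons.1 hr with rfl | hr
    · exact h.1
    · exact h.1.trans ((List.pairwise_cons.1 ih).1 r hr)

theorem card_centraliser (hK : Coord t a b c) :
    Nat.card (Subgroup.centralizer ({t} : Set G)) = 177408000 := by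
  rw [← Fusion.range_eq hK,
    ← Nat.card_congr (MonoidHom.ofInjective (Fusion.pr_inj hK)).toEquiv, m_card hK.rels]

/-- The bound from the 2200 conjugates. -/
theorem card_dSub_le [Finite G] (hK : Coord t a b c) : Nat.card (dSub t c) ≤ 80640 := by
  obtain ⟨hincr, hlen, hok⟩ := orbit_checks
  let L := orbitParts.flatten
  let w : Fin 2200 → List ℕ := fun k => L[k.1]'(by rw [hlen]; exact k.2)
  have hlt : ∀ k, ∀ g ∈ cjW (w k), g < 6 := fun k g hg => by
    simpa using List.all_eq_true.1 (List.all_eq_true.1 hok _ (List.getElem_mem _)) g hg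
  have hev : ∀ k, evalW (elt a b c) (cjW (w k)) =
      (evalW (elt a b c) (w k))⁻¹ * c * evalW (elt a b c) (w k) := by
    intro k
    rw [cjW, evalW_append, evalW_append, evalW_inv' fun g hg => hlt k g (List.mem_append_right _ hg)]
    simp [evalW, elt]
  have hmem : ∀ k, evalW (elt a b c) (w k) ∈ Subgroup.centralizer ({t} : Set G) := fun k => by
    rw [← Fusion.range_eq hK, ← pr_mW]; exact ⟨_, rfl⟩
  have hlk : ∀ k : Fin 2200, k.1 < (orbitParts.flatten.map okey).length := fun k => by
    rw [List.length_map, hlen]; exact k.2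
  let f : Fin 2200 × dSub t c → Subgroup.centralizer ({t} : Set G) := fun x =>
    ⟨x.2.1 * evalW (elt a b c) (w x.1), mul_mem x.2.2.1 (hmem x.1)⟩
  have hf : Function.Injective f := by
    rintro ⟨k, d⟩ ⟨l, e⟩ h
    have h' : d.1 * evalW (elt a b c) (w k) = e.1 * evalW (elt a b c) (w l) := congrArg Subtype.val h
    have hc : evalW (elt a b c) (cjW (w k)) = evalW (elt a b c) (cjW (w l)) := by
      have conj : ∀ (d : dSub t c) (u : G), (d.1 * u)⁻¹ * c * (d.1 * u) = u⁻¹ * c * u := fun d u => by
        rw [mul_inv_rev, mul_assoc, mul_assoc, ← mul_assoc c d.1 u, ← (mem_dSub.1 d.2).2]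
        group
      rw [hev, hev, ← conj d, h', conj e]
    have hkey : okey (w k) = okey (w l) := by
      refine congrArg (fun m => List.foldl (fun acc p => acc * 2048 + p) 0 m) (List.map_congr_left ?_)
      exact fun p hp => img_eq_of_ev hK (hlt k) (hlt l) hc (base_lt p hp)
    have hkl : k = l := by
      refine Fin.ext ?_
      by_contra hne
      have hp := List.pairwise_iff_getElem.1 (incr_inj hincr)
      rcases lt_or_gt_of_ne hne with h3 | h3
      · have := hp k.1 l.1 (hlk k) (hlk l) h3
        simp only [List.getElem_map] at this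
        exact absurd hkey (ne_of_lt this)
      · have := hp l.1 k.1 (hlk l) (hlk k) h3
        simp only [List.getElem_map] at this
        exact absurd hkey (ne_of_gt this)
    subst hkl
    exact Prod.ext rfl (Subtype.ext (mul_right_cancel h'))
  have := Nat.card_le_card_of_injective f hf
  rw [Nat.card_prod, Nat.card_fin, card_centraliser hK] at this
  omega

/-- The three-cycle images. -/
def yG (a b c : G) (i : Idx (0 : Fin 8) 1) : G := evalW (elt a b c) (yW (i.1.val - 2))

theorem idx_lt (i : Idx (0 : Fin 8) 1) : 2 ≤ i.1.val ∧ i.1.val - 2 < 6 := by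
  obtain ⟨⟨v, hv⟩, h0, h1⟩ := i
  simp [Fin.ext_iff] at h0 h1
  constructor <;> simp <;> omega

theorem yW_mem {i : ℕ} (h : i < 6) : yW i ∈ yWords := by
  have hl : i < yWords.length := by
    rw [show yWords.length = 6 from word_checks.2.2.2.2.2.2.2.2.2.2.2.2.2.2]; exact h
  rw [yW, List.getD_eq_getElem _ [] hl]
  exact List.getElem_mem hl

theorem y_checks {i : ℕ} (hi : i < 6) : same (yW i ++ yW i ++ yW i) [] = true ∧
    same (yW i ++ [0, 0]) ([0, 0] ++ yW i) = true ∧ same (yW i ++ [4]) ([4] ++ yW i) = true := by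
  have := List.all_eq_true.1 word_checks.1 _ (yW_mem hi)
  simpa [Bool.and_eq_true, and_assoc] using this

/-- The transposition induced by `a`. -/
def piA : Perm (Fin 8) := swap 3 5

theorem pi_checks : ∀ v : Fin 8, 2 ≤ v.val →
    piA * cyc (0 : Fin 8) 1 v * piA⁻¹ =
      ((actSeqs.getD (v.val - 2) []).map fun j => cyc (0 : Fin 8) 1 ⟨(j + 2) % 8, Nat.mod_lt _ (by decide)⟩).prod ∧
    ((actSeqs.getD (v.val - 2) []).all fun j => Nat.blt j 6) = true := by
  decide +kernel

theorem seq_lt : ((gSeqs.getD 0 []).all fun j => Nat.blt j 6) = true ∧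
    ((gSeqs.getD 1 []).all fun j => Nat.blt j 6) = true := by
  decide +kernel

/-- The index of a position. -/
def idxOf (j : ℕ) : Idx (0 : Fin 8) 1 :=
  if h : j < 6 then ⟨⟨j + 2, by omega⟩, by simp [Fin.ext_iff]⟩ else ⟨2, by decide⟩

theorem idxOf_val {j : ℕ} (hj : j < 6) : (idxOf j).1.val = j + 2 := by simp [idxOf, hj]

theorem prod_seq (ι : alternatingGroup (Fin 8) →* G)
    (hι : ∀ i, ι (gen (by decide) i) = yG a b c i) {s : List ℕ} (hs : (s.all fun j => Nat.blt j 6) = true) :
    evalW (elt a b c) (seqW s) = ι ((s.map fun j => gen (by decide) (idxOf j)).prod) := by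
  rw [seqW_eval, map_list_prod, List.map_map]
  refine congrArg List.prod (List.map_congr_left fun j hj => ?_)
  have hj6 : j < 6 := by simpa using List.all_eq_true.1 hs j hj
  simp [hι, yG, idxOf_val hj6]

/-- The alternating group of degree eight inside `D`, and the action of `a` on it. -/
theorem exists_alt8 (hK : Coord t a b c) :
    ∃ ι : alternatingGroup (Fin 8) →* G, Function.Injective ι ∧
      (∀ i, ι (gen (by decide : (0 : Fin 8) ≠ 1) i) = yG a b c i) ∧ CRels (yG a b c) ∧
      (∀ x, ι x ∈ dSub t c) ∧ ∀ x, a * ι x * a⁻¹ = ι (MulAut.conjNormal piA x) := by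
  obtain ⟨-, hpair, hact, -, -, -, -, -, -, -, -, -, -, hy0, -⟩ := word_checks
  have h01 : (0 : Fin 8) ≠ 1 := by decide
  -- the alternating group inside D
  have crels : CRels (yG a b c) := by
    refine ⟨fun i => ?_, fun i j hij => ?_⟩
    · have := ev_same hK (y_checks (idx_lt i).2).1
      rw [evalW_append, evalW_append, evalW_nil] at this
      rw [yG, pow_succ, pow_two, this]
    · have hne : i.1.val - 2 ≠ j.1.val - 2 := fun e => hij (Subtype.ext (Fin.ext (by
        have := (idx_lt i).1; have := (idx_lt j).1; omega)))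
      have h := List.all_eq_true.1 (List.all_eq_true.1 hpair _ (List.mem_range.2 (idx_lt i).2)) _
        (List.mem_range.2 (idx_lt j).2)
      rw [Bool.or_eq_true, Nat.beq_eq] at h
      have := ev_same hK (h.resolve_left hne)
      rw [evalW_append, evalW_append, evalW_nil] at this
      rw [yG, yG, pow_two, this]
  obtain ⟨ι, hι⟩ := exists_hom h01 _ crels
  haveI : IsSimpleGroup ↥(alternatingGroup (Fin 8)) := alternatingGroup.isSimpleGroup (by simp)
  have hinj : Function.Injective ι := by
    rw [← MonoidHom.ker_eq_bot_iff]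
    refine (IsSimpleGroup.eq_bot_or_eq_top_of_normal _ (MonoidHom.normal_ker _)).resolve_right fun h => ?_
    have h2 : ι (gen h01 (idxOf 0)) = 1 := MonoidHom.mem_ker.1 (h ▸ Subgroup.mem_top _)
    rw [hι, yG, idxOf_val (by decide)] at h2
    exact ev_differ hK (by decide +kernel) hy0 h2
  have hD : ∀ x, ι x ∈ dSub t c := by
    intro x
    have hx : x ∈ Subgroup.closure (Set.range (gen h01 : Idx (0 : Fin 8) 1 → alternatingGroup (Fin 8))) := by
      rw [gen_closure h01]; trivial
    induction hx using Subgroup.closure_induction with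
    | mem x hx =>
      obtain ⟨i, rfl⟩ := hx
      obtain ⟨-, e1, e2⟩ := y_checks (idx_lt i).2
      have e1 := ev_same hK e1
      have e2 := ev_same hK e2
      rw [evalW_append, evalW_append] at e1 e2
      rw [mem_dSub, hι, yG]
      exact ⟨by simpa [evalW, elt, hK.sq] using e1, by simpa [evalW, elt] using e2⟩
    | one => rw [map_one]; exact one_mem _
    | mul x y _ _ hx hy => rw [map_mul]; exact mul_mem hx hy
    | inv x _ hx => rw [map_inv]; exact inv_mem hx
  -- conjugation by a
  have hA : ∀ x, a * ι x * a⁻¹ = ι (MulAut.conjNormal piA x) := by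
    suffices h : (MulAut.conj a).toMonoidHom.comp ι =
        ι.comp (MulAut.conjNormal piA : MulAut (alternatingGroup (Fin 8))).toMonoidHom from
      fun x => DFunLike.congr_fun h x
    refine MonoidHom.eq_of_eqOn_dense (gen_closure h01) ?_
    rintro _ ⟨i, rfl⟩
    obtain ⟨hperm, hlt⟩ := pi_checks i.1 (idx_lt i).1
    have hx : MulAut.conjNormal piA (gen h01 i) =
        ((actSeqs.getD (i.1.val - 2) []).map fun j => gen h01 (idxOf j)).prod := by
      refine Subtype.ext ?_
      rw [MulAut.conjNormal_apply, gen_val, hperm, SubmonoidClass.coe_list_prod, List.map_map]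
      refine congrArg List.prod (List.map_congr_left fun j hj => ?_)
      have hj6 : j < 6 := by simpa using List.all_eq_true.1 hlt j hj
      simp only [Function.comp_apply, gen_val]
      congr 1
      exact Fin.ext (by rw [idxOf_val hj6]; exact Nat.mod_eq_of_lt (by omega))
    show a * ι (gen h01 i) * a⁻¹ = ι (MulAut.conjNormal piA (gen h01 i))
    rw [hx, ← prod_seq ι hι hlt, hι, yG,
      ← ev_same hK (List.all_eq_true.1 hact _ (List.mem_range.2 (idx_lt i).2))]
    simp [evalW, elt, mul_assoc]
  exact ⟨ι, hinj, hι, crels, hD, hA⟩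

end CfsgLib.HNRec.Normal
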