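import Cfsg.Agent.Lib.HNRec.Normal.Data
import Cfsg.Agent.Lib.HNRec.Normal.Defs
import Cfsg.Agent.Lib.HNIndex.Fix
import Mathlib.GroupTheory.SpecificGroups.Alternating

/-!
# Finite checks for the exchange normalisation
-/

set_option autoImplicit false
set_option maxRecDepth 100000

namespace CfsgLib.HNRec.Normal

open CfsgLib.HNxyz CfsgLib.HNIndex

/-- The word of a three-cycle. -/
def yW (i : ℕ) : List ℕ := yWords.getD i []

/-- The word of a product of three-cycles. -/
def seqW (s : List ℕ) : List ℕ := (s.map yW).flatten

/-- The word of a conjugate of the third generator. -/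
def cjW (w : List ℕ) : List ℕ := HNxyz.invW w ++ [4] ++ w

/-- The key of a conjugate of the third generator. -/
def okey (w : List ℕ) : ℕ := (base.map (img (cjW w))).foldl (fun acc p => acc * 2048 + p) 0

/-- A list is strictly increasing. -/
def incr : List ℕ → Bool
  | p :: q :: l => Nat.blt p q && incr (q :: l)
  | _ => true

theorem word_checks :
    (yWords.all fun w => same (w ++ w ++ w) [] && same (w ++ [0, 0]) ([0, 0] ++ w) &&
      same (w ++ [4]) ([4] ++ w)) = true ∧
    ((List.range 6).all fun i => (List.range 6).all fun j =>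
      Nat.beq i j || same (yW i ++ yW j ++ (yW i ++ yW j)) []) = true ∧
    ((List.range 6).all fun i => same ([0] ++ yW i ++ [1]) (seqW (actSeqs.getD i []))) = true ∧
    same (seqW (gSeqs.getD 0 [])) dWordOne = true ∧ same (seqW (gSeqs.getD 1 [])) dWordTwo = true ∧
    same ([0] ++ dWordOne ++ [1]) dImgOne = true ∧ same ([0] ++ dWordTwo ++ [1]) dImgTwo = true ∧
    same [4, 4] [] = true ∧ same [0, 0, 4] [4, 0, 0] = true ∧ same [0, 4, 1] [0, 0, 4] = true ∧
    same [0, 0, 0, 0] [] = true ∧
    same [4] [] = false ∧ same [4] [0, 0] = false ∧ same (yW 0) [] = false ∧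
    yWords.length = 6 := by
  decide +kernel

theorem orbit_checks :
    incr (orbitParts.flatten.map okey) = true ∧ orbitParts.flatten.length = 2200 ∧
    (orbitParts.flatten.all fun w => (cjW w).all fun g => Nat.blt g 6) = true := by
  decide +kernel

end CfsgLib.HNRec.Normal
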