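import Mathlib.Data.Nat.Notation

/-!
# Words for the exchange normalisation (generated by tools/hnrec/normal)
-/

set_option autoImplicit false
set_option maxRecDepth 100000
set_option linter.style.longLine false

namespace CfsgLib.HNRec.Normal

/-- The six three-cycles of the alternating part. -/
def yWords : List (List ℕ) := [
  [3,1,3,1,2,1,2,1,2,0,3,0,2,2,0,2,2,2,0,3,3,1,3,1,2,1,2,1,2,0,3,0,2,2,0,2,2,2,0,3,3,1,3,1,2,1,2,1,2,0,3,0,2,2,0,2,2,2,0,3,1,3,1,2,2,1,3,1,3,4,3,0,2,2,4,2,0,2,0,3,1,3,1,2,1,2,1,2,0,3,0,2,2,0,2,2,2,0,3,1,3,1,2,2,1,3,1,3,4,3,0,2,2,4,2,0,2,0,3,1,3,1,2,1,2,1,2,0,3,0,2,2,0,2,2,2,0,3,3,1,3,1,2,1,2,1,2,0,3,0,2,2,0,2,2,2,0,3,1,3,1,2,2,1,3,1,3,4,3,0,2,2,4,2,0,2,0,3,1,3,1,2,1,2,1,2,0,3,0,2,2,0,2,2,2,0,3,1,3,1,2,2,1,3,1,3,4,3,0,2,2,4,2,0,2,0],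
  [3,1,3,1,2,1,2,1,2,0,3,0,2,2,0,2,2,2,0,3,3,1,3,1,2,1,2,1,2,0,3,0,2,2,0,2,2,2,0,3,1,3,1,2,2,1,3,1,3,4,3,0,2,2,4,2,0,2,0,3,1,3,1,2,1,2,1,2,0,3,0,2,2,0,2,2,2,0,3,1,3,1,2,2,1,3,1,3,4,3,0,2,2,4,2,0,2,0,3,1,3,1,2,1,2,1,2,0,3,0,2,2,0,2,2,2,0,3,3,1,3,1,2,1,2,1,2,0,3,0,2,2,0,2,2,2,0,3,1,3,1,2,2,1,3,1,3,4,3,0,2,2,4,2,0,2,0,3,1,3,1,2,1,2,1,2,0,3,0,2,2,0,2,2,2,0,3,1,3,1,2,2,1,3,1,3,4,3,0,2,2,4,2,0,2,0,3,1,3,1,2,1,2,1,2,0,3,0,2,2,0,2,2,2,0,3],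
  [3,1,3,1,2,1,2,1,2,0,3,0,2,2,0,2,2,2,0,3,1,3,1,2,2,1,3,1,3,4,3,0,2,2,4,2,0,2,0,3,1,3,1,2,1,2,1,2,0,3,0,2,2,0,2,2,2,0,3,1,3,1,2,2,1,3,1,3,4,3,0,2,2,4,2,0,2,0,3,1,3,1,2,1,2,1,2,0,3,0,2,2,0,2,2,2,0,3,3,1,3,1,2,1,2,1,2,0,3,0,2,2,0,2,2,2,0,3,1,3,1,2,2,1,3,1,3,4,3,0,2,2,4,2,0,2,0,3,1,3,1,2,1,2,1,2,0,3,0,2,2,0,2,2,2,0,3,1,3,1,2,2,1,3,1,3,4,3,0,2,2,4,2,0,2,0,3,1,3,1,2,1,2,1,2,0,3,0,2,2,0,2,2,2,0,3,3,1,3,1,2,1,2,1,2,0,3,0,2,2,0,2,2,2,0,3],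
  [1,3,1,2,2,1,3,1,3,4,3,0,2,2,4,2,0,2,0,3,1,3,1,2,1,2,1,2,0,3,0,2,2,0,2,2,2,0,3,1,3,1,2,2,1,3,1,3,4,3,0,2,2,4,2,0,2,0,3,1,3,1,2,1,2,1,2,0,3,0,2,2,0,2,2,2,0,3,3,1,3,1,2,1,2,1,2,0,3,0,2,2,0,2,2,2,0,3,1,3,1,2,2,1,3,1,3,4,3,0,2,2,4,2,0,2,0,3,1,3,1,2,1,2,1,2,0,3,0,2,2,0,2,2,2,0,3,1,3,1,2,2,1,3,1,3,4,3,0,2,2,4,2,0,2,0,3,1,3,1,2,1,2,1,2,0,3,0,2,2,0,2,2,2,0,3,3,1,3,1,2,1,2,1,2,0,3,0,2,2,0,2,2,2,0,3,3,1,3,1,2,1,2,1,2,0,3,0,2,2,0,2,2,2,0,3],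
  [3,1,3,1,2,1,2,1,2,0,3,0,2,2,0,2,2,2,0,3,1,3,1,2,2,1,3,1,3,4,3,0,2,2,4,2,0,2,0,3,1,3,1,2,1,2,1,2,0,3,0,2,2,0,2,2,2,0,3,1,3,1,2,2,1,3,1,3,4,3,0,2,2,4,2,0,2,0,1,3,1,2,2,1,3,1,3,4,3,0,2,2,4,2,0,2,0,3,1,3,1,2,1,2,1,2,0,3,0,2,2,0,2,2,2,0,3,1,3,1,2,2,1,3,1,3,4,3,0,2,2,4,2,0,2,0,3,1,3,1,2,1,2,1,2,0,3,0,2,2,0,2,2,2,0,3,1,3,1,2,2,1,3,1,3,4,3,0,2,2,4,2,0,2,0,1,3,1,2,2,1,3,1,3,4,3,0,2,2,4,2,0,2,0,3,1,3,1,2,1,2,1,2,0,3,0,2,2,0,2,2,2,0,3,1,3,1,2,2,1,3,1,3,4,3,0,2,2,4,2,0,2,0],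
  [3,1,3,1,2,1,2,1,2,0,3,0,2,2,0,2,2,2,0,3,3,1,3,1,2,1,2,1,2,0,3,0,2,2,0,2,2,2,0,3,3,1,3,1,2,1,2,1,2,0,3,0,2,2,0,2,2,2,0,3,3,1,3,1,2,1,2,1,2,0,3,0,2,2,0,2,2,2,0,3,1,3,1,2,2,1,3,1,3,4,3,0,2,2,4,2,0,2,0,3,1,3,1,2,1,2,1,2,0,3,0,2,2,0,2,2,2,0,3,1,3,1,2,2,1,3,1,3,4,3,0,2,2,4,2,0,2,0,3,1,3,1,2,1,2,1,2,0,3,0,2,2,0,2,2,2,0,3,3,1,3,1,2,1,2,1,2,0,3,0,2,2,0,2,2,2,0,3,1,3,1,2,2,1,3,1,3,4,3,0,2,2,4,2,0,2,0,3,1,3,1,2,1,2,1,2,0,3,0,2,2,0,2,2,2,0,3,1,3,1,2,2,1,3,1,3,4,3,0,2,2,4,2,0,2,0,3,1,3,1,2,1,2,1,2,0,3,0,2,2,0,2,2,2,0,3,3,1,3,1,2,1,2,1,2,0,3,0,2,2,0,2,2,2,0,3,3,1,3,1,2,1,2,1,2,0,3,0,2,2,0,2,2,2,0,3,3,1,3,1,2,1,2,1,2,0,3,0,2,2,0,2,2,2,0,3]]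

/-- The conjugates of the three-cycles under the first generator, as products of three-cycles. -/
def actSeqs : List (List ℕ) := [[0], [3], [2], [1], [4], [5]]

/-- The two generators as products of three-cycles. -/
def gSeqs : List (List ℕ) := [[0,3,1,5,2,0,3], [4,2,1,4]]

/-- Conjugating words, part 0. -/
def orbit0 : List (List ℕ) := [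
  [2,2,2,0,3,4,3,0,2,4],
  [2,4,2,2,0,4,3,0,3,3,0],
  [2,2,0,2,4,2,2,4,2],
  [0,2,4,2,0,2,0,3,4,3,0,4],
  [2,0,4,2,0,4],
  [0,3,3,0,3,4,3,3,4,3,3,0,3],
  [2,2,2,0,2,4,2,0,3,4,3,3],
  [2,2,0,2,4,2,2,4,3,3],
  [2,4,2,2,0,3,3,4,2,0,4,3,3],
  [0,2,4,2,0,3,4,3,3],
  [2,2,0,4,3,4,2,2,0],
  [3,3,4,3,0,3,0,3,4],
  [2,2,2,4,3],
  [0,2,2,0,2,2,4,3,4,3,4],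
  [0,2,2,2,4,2,0,3,4,3,0],
  [0,3,4,3,0,2,4],
  [3,3,0,3,4,3,3,4],
  [0,2,2,2,0,4,3],
  [3,0,4,3,0,4,3,3],
  [3,3,0,3,4,3,3,4,2,2,2],
  [0,2,2,2,0,4,2,2],
  [2,0],
  [0,2,0],
  [2,0,4,2,4,2,4,2,4,2,0,3,3],
  [2,4,2,0,3,4,3,3],
  [2,4,2,0,2,0,3,4,3,0,4],
  [3,3,0,3,4,3,3,4,3,3,0,3],
  [0,2,2,2,0,2,4,2,0,3,4,3,3],
  [0,2,2,0,2,4,2,2,4,3,3],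
  [0,2,2,2,0,3,4,3,0,2,4],
  [2,0,4,2,2,4,3,3,4,3,0],
  [0,2,2,0,2,4,2,2,4,2],
  [0,2,0,4,2,0,4],
  [0,2,2,2,4,3],
  [0,3,3,4,3,0,3,0,3,4],
  [2,2,0,2,2,4,3,4,3,4],
  [3,3,4,3,4,3,4,3,4],
  [2,2,2,4,2,0,3,4,3,0],
  [3,4,3,0,2,4],
  [0,3,3,0,3,4,3,3,4],
  [2,2,2,0,4,3],
  [0,3,3,0,3,4,3,3,4,2,2,2],
  [0,3,0,4,3,0,4,3,3],
  [2,2,2,0,4,2,2],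
  [2,2,2,0,2,0,2,2,0,2,0,2,0,2],
  [2,2,2,0,3,0,3,3,0],
  [0,2,2,2,0,3,0,2],
  [2,2,2,0,3,0,3,3,0,3],
  [2,2,0,2,4,2,2,4,3,3,0,2],
  [0,2,4,2,0,3,4,3,3,0,2],
  [2,4,2,2,0,4,3,0,3],
  [3,0,4,2,2,4],
  [2,2,0,2],
  [2,2,2,4,3,4,3,3,0,2,0,3],
  [2,4,2,2,0,3,4,3,4,3,0],
  [2,0,4,2,4,2],
  [2,2,0,2,0,3,0],
  [3,0,4,3,4,3,0,2,2,0],
  [0,2,2,2,4,2,0,3,4],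
  [3,3,0,3,4,2,2,4],
  [2,0,4,3,3,4,3,3],
  [0,2,2,2,0,4,2,2,0,2],
  [3,4,3,0,3,4,3,0,4],
  [0,2,4,2,2,4,3,3,0,4],
  [0,2,2,4,2,0,3,4,3],
  [0,2,2,2,0,4,2,0],
  [2,2,0,2,0,3,0,4,3,4,2,2],
  [2,2,4,2,0,2,4,3],
  [2,2,4,2,0,2,0,4],
  [2,2,4,2,4,2,2],
  [3,4,3,3,4,3,3,0,2,2],
  [0,3,4,3,0,3,4,3,4,2,4,2],
  [3,3,4,3,4,3,4],
  [2,2,0,4,2,2,0,3],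
  [3,3,4,3,0,3,0,2],
  [2,4,2,0,2,4,3],
  [3,3,4,3,4,3,0,2,2],
  [2,4,2,0,2,0],
  [0,3,3,0,4,2,2,2],
  [0,3,4,3,0,3,0,4,3],
  [0,3,4,3,3,4,3,3,0],
  [2,0,4,2,4,2,0,3,3],
  [0,2,2,2,4,2,0,3,0,3,4],
  [0,2,2,0,2,2,4,2],
  [0,2,2,0,2,0,2,0,4],
  [3,4,3,0,3,0,4,2,0],
  [2,2,0,2,4,3,3,0,4],
  [3,0,4,3],
  [0,3,3,4,3,4,3,0,4],
  [3,3,4,3,4,2,2,0,4],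
  [3,3,0,3,0,2,0,4,2,4,3,3],
  [3,4,3,3,0,2,4,2,4],
  [2,4,2,2,0,3,4,3,4,3],
  [3,3,0,3,4,3,0],
  [3,3,0,3,4,2,4,2],
  [2,2,2,0,2,4,3,3,0],
  [2,2,0,2,0,3,0,4,3,4,2],
  [0,2,2,2,4,2,0,3,3,4,2],
  [2,2,0,2,4,3,4,3,3],
  [2,2,0,2,4,3,4,2]]

/-- Conjugating words, part 1. -/
def orbit1 : List (List ℕ) := [
  [0,2,2,0,2,2,4,3,0,4],
  [0,2,2,2,4,2,0,3,3,4,3,3],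
  [0,2,2,0,2,2,4,2,0,4,2,2],
  [3,0,4,2,2],
  [0,2,2,0,2,0,4,3,0,3,0],
  [0,2,4,2,0,2,0,3,4,3,4,3],
  [2,4,2,2,4,3,3,0,3,0,2],
  [3,3,4,3,0,3],
  [2,2,0,2,0,3,0,3,0,2,0,2],
  [2,2],
  [2,4,2,2,4,2,2,0,3,3],
  [0,3,4,3,3,0,2,4,2,4,2],
  [0,2,4,2,0,2,0,2],
  [2,2,0,2,2,4,2,2,2],
  [2,4,2,2,0,3,4,3,0,2],
  [2,2,4,2,4,2],
  [3,4,3,0,3,4,2],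
  [0,3,3,4,3,4,2,2],
  [2,4,2,0,2,2,2,0,4,2],
  [0,2,4,2,2,0,3,0,3,4],
  [0,3,3,0,4,3,3,0,3],
  [2,4,2,0,2,0,2,0,3],
  [0,2,2,4,2,4,2,0,2,2],
  [2,4,2,2,4,2,2,2,4],
  [2,4,2,0,2,0,4,3],
  [0,2,2,4,2,4,2,4,3,3],
  [2,2,0,4,2],
  [2,2,0,2,0,3,0,2,4],
  [0,3,4,3,0,3,4,3],
  [0,3,3,4,3,0,3,4,3],
  [3,3,4,3,0,2,0,2,0],
  [0,2,2,2,0,4,3,0,3,3],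
  [0,2,0,4,2,0],
  [2,2,0,3],
  [2,2,0,2,2],
  [2,2,2,0],
  [3,3,4,3,0],
  [0,3,3,0,3,0],
  [0,3,3,0,4,3,0],
  [0,2,2,4,2,2,0,2,0],
  [2,4,2,0,2,2,0,3,3,0],
  [0,2,2,0,2,2,4,2,2,2,0],
  [2,4,2,0,3],
  [2,2,0,4,2,2,0,2,0],
  [2,4,2,0,2,2],
  [0,2,2,4,2,2,0,3,0],
  [3,0],
  [0,2,2,0,2,0],
  [0,2,2,0,4,2,2,2,0],
  [0,2,2,0,2,2,4,3,0],
  [3,3,0,4,3,3,0,3,0],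
  [0,3,3,0,4,2,2,2,0],
  [2,2,0,4,2,2,0,3,0],
  [0,2,2,4,2,2,0,2,2,2,0],
  [2,4,2,0,2,0,2],
  [3,4,3,3,0,2,4,2,4,2],
  [0,2,4,2,2,4,2,2,0,3,3],
  [2,2,4,2,4,2,0,2,2],
  [0,2,4,2,0,2,0,2,0,3],
  [2,4,2,2,0,3,0,3,4],
  [3,3,4,3,4,2,2],
  [3,0,4,3,4,3,0],
  [0,2,2,0,2,2,4,2,2,2],
  [0,2,4,2,2,0,3,4,3,0,2],
  [2,2,2,0,2,0,3,3,4],
  [3,4,3,0,3,4,3],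
  [3,3,4,3,0,3,4,3],
  [3,3,0,4,3,3,0,3],
  [2,0,4,3,3,0,3,0,4,2],
  [0,2,2,0,4,2],
  [0,3,3,4,3,0,2,0,2,0],
  [0,2,2,4,2,4,2],
  [0,2,4,2,0,2,0,4,3],
  [2,2,4,2,4,2,4,3,3],
  [2,2,2,0,2,4,2,4,2],
  [0,2,2],
  [2,4,2,0,2,0,3,4,3,4,3],
  [0,3,0,4,3],
  [0,3,0,4,2,2],
  [2,2,0,2,0,4,3,0,3,0],
  [3,3,4,3,4,3,0,4],
  [2,2,2,0,4,3,4,2,0],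
  [0,2,4,2,2,0,3,4,3,4,3],
  [0,3,4,3,3,0,2,4,2,4],
  [2,0,4,2,4,2,4,2,2,4,2],
  [2,2,2,4,2,0,3,3,4,2],
  [2,2,2,4,2,0,3,3,4,3,3],
  [2,0,4,2,2,4,2,2,2,4,3,3],
  [2,2,0,2,2,4,3,0,4],
  [2,2,0,2,2,4,2,0,4,2,2],
  [2,0,4,2,2,0,4,2],
  [2,0,4,2,2,0,4,3,3],
  [3,0,4,2,2,2,0,3,0],
  [3,0,4,3,3,0,4,2],
  [0,3,3,0,3,4,3,0],
  [0,3,3,4,3,0,3],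
  [2,2,0,2,2,4,2,2,2,0,4],
  [2,2,2,0,2,0,2,2,0,2,0,2],
  [3,3,4,3,4,2,2,2],
  [0,2,2,4,2,4,2,2]]

/-- Conjugating words, part 2. -/
def orbit2 : List (List ℕ) := [
  [3,0,4,2,2,4,2,0],
  [2,0,4,2,4,2,4,2,2,4,2,2],
  [3,3,0,4,2,2,2],
  [3,4,3,0,3,0,4,3],
  [2,2,2,4,2,0,3,0,3,4],
  [0,3,3,4,3,0,3,0,2],
  [0,2,2,0,4,2,2,0,3],
  [2,2,0,2,2,4,2],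
  [2,0,4,2,4,2,0],
  [3,4,3,3,4,3,3,0],
  [2,4,2,0,2,4,2,2,2],
  [0,3,3,4,3,4,3,4],
  [0,3,3,4,3,4,3,0,2,2],
  [0,3,4,3,3,4,3,3,0,2,2],
  [3,4,3,0,3,4,3,4,2,4,2],
  [0,2,4,2,0,2,0],
  [2,2,0,2,0,2,0,4],
  [0,3,4,3,0,3,0,4,2,0],
  [2,0,4,2,2,0,3,0,4],
  [2,2,2,0,4,3,0,3,3],
  [2,0,4,2,0],
  [3,3,0,3,0],
  [0,3,3,4,3,0],
  [0,2,2,0,3],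
  [0,2,2,0,2,2],
  [0,2,2,2,0],
  [2,2,0,2,0],
  [2,2,0,4,2,2,2,0],
  [3,3,0,4,2,2,2,0],
  [0,3,0],
  [2,2,0,2,2,4,2,2,2,0],
  [0,2,4,2,0,2,2,0,3,3,0],
  [2,2,4,2,2,0,3,0],
  [0,2,4,2,0,2,2],
  [2,2,4,2,2,0,2,0],
  [3,3,0,4,3,0],
  [0,2,2,0,4,2,2,0,3,0],
  [2,2,4,2,2,0,2,2,2,0],
  [2,0,4,3,3,4,3,4,2],
  [0,2,4,2,0,3],
  [3,0,4,2,2,4,2,4,3],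
  [2,2,0,2,2,4,3,0],
  [2,2,2,0,3,0,2],
  [3,3,0,3,0,2,0,2,0,3],
  [2,2,0,2,0,3,0,3,0,2,0,2,0,2],
  [3,3,0,3,0,2,0,2,0],
  [0,2,2,0,2,0,3,0],
  [0,2,2,0,2],
  [0,2,2,2,4,3,4,3,3,0,2,0,3],
  [2,4,2,2,0,3,4,3,3,0,3],
  [3,4,3,0,3,4,2,2,2,0],
  [2,2,2,0,4,2,2,0,2],
  [0,2,0,4,3,3,4,3,3],
  [0,3,0,4,2,2,4],
  [2,2,4,2,0,3,4,3,0,3,3,4],
  [2,4,2,2,4,3,3,0,4],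
  [0,3,4,3,0,3,4,3,0,4],
  [3,0,4,3,3,0,2,4],
  [2,2,2,4,2,0,3,4],
  [2,0,4,2,2,4,3,3,4],
  [2,4,2,0,3,4,3,3,0,2],
  [0,2,0,4,2,4,2],
  [2,2,4,2,0,3,4,3],
  [2,2,2,0,4,2,0],
  [0,2,4,2],
  [2,4,2,2,0,3,4,3,3,0,2,2,2],
  [0,2,2,0,2,4,2,2,4,3,3,0,3],
  [0,2,2,2,0,3,4,3,3],
  [2,2,2,0,2,4,2],
  [2,2,2,0,4,2,4,2,0,4],
  [2,2,0,2,4,2,2,4,2,2,0,2],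
  [2,0,4,2,2,0,3,3],
  [2,2,0,2,4,2,2,4,3,3,4,3,3],
  [2,2,4,2,4,2,0,2,4,2,0,3],
  [0,2,2,4,3],
  [2,2,0,2,4,2,2,2,4],
  [2,4,2,2,0,2,0,3,3],
  [2,2,2,0,4,2,4,2],
  [0,2,2,2,4,2,4,2],
  [2,2,2,4,2,4,2,0],
  [0,2,2,2,0,4,2,4,2,4],
  [2,2,2,0,2,4,2,0,4],
  [2,2,2,0,3,4,3,3,4],
  [2,4,2,2,0,3,0,3,3],
  [0,2,4,2,2,0,3,0,3,3,0],
  [3,3,4,3,4,3,0,2,2,2],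
  [0,3,4,3,0,3,0,3,0],
  [2],
  [],
  [2,2,2,0,2,0,3,3,4,2],
  [2,0,4,3,3,0,3,0,4,2,2],
  [2,2,2,0,2,0,3],
  [2,2,2,0,3,0,2,2],
  [0,3,3,0,3,0,3,0],
  [0,2,2,0,4,2,2,2,0,2,0,3],
  [2,2,0,2,0,2,4,2],
  [3,3,0,3,0,3],
  [0,2,4,2,2,0,2,0,3,4,3,3],
  [2,2,2,0,3,0,2,4,2],
  [2,2,4,2,4,2,0,3,3]]

/-- Conjugating words, part 3. -/
def orbit3 : List (List ℕ) := [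
  [3,0,4,2,2,0,2,0,4,3],
  [2,4],
  [2,2,2,0,3,0,2,2,4],
  [2,2,2,0,2,0,3,4],
  [0,3,3,0,3,0,3,0,4],
  [3,3,0,3,0,3,4],
  [2,4,2,2,0,3,4,3,4,3,0,3,3],
  [2,2,0,2,4,2,2,4,3,3,0,3],
  [2,4,2],
  [2,2,2,0,3,4,3,3],
  [0,2,2,2,0,2,4,2],
  [0,2,2,0,2,4,2,2,4,2,2,0,2],
  [2,2,0,2,4,2,2,2],
  [2,2,2,0,4,2,4,2,4],
  [2,2,4,3],
  [2,0,4,2,2,0,3,3,4],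
  [0,2,2,2,4,2,4,2,0],
  [2,2,2,4,2,4,2],
  [2,2,2,0,4,2,4,2,0],
  [0,2,2,4,2,4,2,0,2,4,2,0,3],
  [2,4,2,2,0,2,0,3,3,4],
  [0,2,2,2,0,2,4,2,0,4],
  [0,2,2,2,0,3,4,3,3,4],
  [2,2,0,2,2,4,2,2,2,4,2,2,2],
  [0,2,2,2,0,4,2,4,2],
  [2,4,2,2,0,3,0,3,3,0],
  [0,2,4,2,2,0,3,0,3,3],
  [0,3,4,3,0,2,4,2],
  [2,4,2,2,0,2,2,2],
  [2,2,2,4,2,4,3],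
  [0,2,2,0,2,2,4,2,4],
  [3,4,3,3,4,2,2,0,2],
  [0,2,0,4,2,4],
  [2,2,4,2,2,0,3,3],
  [0,2,4,2,0,2,2,0,3],
  [2,2,0,4],
  [2,2,0,4,2,2,2,0,2,0,2],
  [0,3,4,3,0,3,3,4,2,4],
  [2,2,0,2,0,4,2,4],
  [0,2,2,2,0,4,2,4],
  [2,2,0,4,2,0,4,2,4],
  [0,2,4,2,2,4,3,0,3],
  [2,2,4,2,0,4,2,0],
  [0,2,2,4,2,0,4,2,4],
  [2,0,4,2,2,0,4,2,2,2,4],
  [3,3,0,3,0,4,2,4],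
  [2,0,4,3,3,0,4,3,4],
  [0,2,2,0,2,2,4,2,0,4,2,0],
  [2,4,2,0],
  [3,4,3,0,2],
  [2,4,2,2,0,4,3,0,3,3,0,2],
  [2,2,2,4,3,4,3,3,0,2,0,2],
  [3,4,3,3,0,2,4,2,4,2,0],
  [3,3,4,3],
  [2,2,0,2,2,4,2,2,2,4,2],
  [2,4,2,2,4,3,3,0,2],
  [0,3,4,3,3,0,3,0],
  [2,2,2,4,3,4,2,2,2],
  [0,2,2,0,4,2,0,3,3,4,2],
  [2,4,2,2],
  [2,2,2,0,4,2,4,2,4,2],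
  [0,2,2,2,0,3,4,3,3,4,2],
  [3,3,0,3,4,2],
  [2,2,4,2,4,2,0,2,0],
  [0,2,4,2,0,2,4,2,0,3,3,0],
  [2,2,2,0,2,4],
  [2,0,4,2,2,2,0,2,2],
  [2,4,2,2,4,2,0,3,3,4],
  [0,3,4,3,3,0,2,0],
  [3,3,4,3,0,4,2,2,0],
  [0,2,4,2,0,2,4,2,2,4],
  [0,2,2,2,0,3,4,3,0,2],
  [3,4,3,0,3,0,2,4,2,4],
  [0,2,2,2,0,3],
  [0,3,3,0,3,0,2,0],
  [2,2,4,2,4,3,3,0,4],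
  [0,2,2,4,2,4,2,0,4],
  [0,3,3,4,3,0,3,4],
  [2,2,0,2,2,0],
  [2,2,2,0,2,0,2],
  [2,2,2,0,2,0,3,3],
  [2,2,2,0,3,0],
  [0,3,4,3,3,0,3,0,2,0],
  [2,2,2,4,3,4,3,3,0],
  [2,2,0,4,2,0,4,2,2,2,0],
  [2,4,2,2,0,2,2,4,3,3],
  [3,0,4,2,2,2,4],
  [2,2,2,0,2,0,2,2,0,2,0],
  [0,2,2,0,2,4,2,4,2,2,0],
  [0,3,4,3,3,0,2,4,2],
  [2,0,4,2,2,2,4,2],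
  [3,4,3,3,0,4],
  [0,2,2,4,2,0,2,4,2],
  [2,4,2,2,0,2,2,0],
  [0,2,4,2,2,0,3,4],
  [2,2,2,0,2,0,3,0],
  [0,2,2,2,0,2,0,3],
  [2,2,0,2,0,3,0,2,4,2],
  [2,4,2,0,2,2,2,0,4,2,2],
  [0]]

/-- Conjugating words, part 4. -/
def orbit4 : List (List ℕ) := [
  [0,2],
  [0,3,3,4,3,4,3,0,2,2,2],
  [3,4,3,0,3,0,3,0],
  [2,2,0,4,2,2,2,0,2,0,3],
  [0,2,2,0,2,0,2,4,2],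
  [0,2,4],
  [2,4,2,2,0,2,0,3,4,3,3],
  [2,2,4,2,0,2,0,3,0],
  [2,2,2,0,2,0,3,0,4],
  [0,3,3,0,3,0,3],
  [2,2,0,2,0,2,4,3,4,3],
  [0,2,2,4,2,4,2,0,3,3],
  [3,3,0,3,0,3,0],
  [0,2,2,2,0,2,0,3,4],
  [0,3,3,0,3,0,3,4],
  [3,3,0,3,0,3,0,4],
  [3,0,4,3,3],
  [0,2,0,4,2,4,3],
  [2,2,0,4,2,0,2,4],
  [2,2,2,4,3,4,2,2],
  [2,2,4,2,2,0,2,2,2],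
  [3,3,4,3,4,2,2,4],
  [2,4,2,0,3,4,3,3,0,2,4],
  [2,2,4,2,0,4,2,4,2],
  [2,2,4,2,4,3,3,0],
  [3,3,0,4,2],
  [2,2,0,4,2,2,2,0,2,4],
  [0,3,3,0,3,0,3,4,3,3],
  [0,2,4,2,0,2,2,0,3,3],
  [2,4,2,2,4,3,3,0],
  [3,3,0,4,3,0,3,0],
  [3,4,3,3,0,3,3],
  [0,2,4,2,0,2,0,4,2,0],
  [2,2,4,2,0,3,4,3,0,3,3],
  [0,3,4,3,3,0,3,0,3],
  [0,2,4,2,0,3,4],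
  [2,0,4,2,2,2,4,2,4],
  [3,4,3,3,4,2,2,4],
  [2,4,2,0,2,2,2],
  [3,4,3,0,3,3],
  [0,2,2,0,2,0,2,0],
  [2,2,2],
  [2,2,2,0,2,0,2,2],
  [3,4,3,3,4,3,3,0,2],
  [2,2,2,0,3,0,3],
  [3,4,3,3],
  [3,3],
  [3,3,4,3,0,2,0,2,2],
  [2,2,0,2,0,3],
  [0,3,4,3,3,0,3,0,2,4],
  [2,2,4,2,0,3,0,3],
  [3,3,4,3,4,3,0],
  [0,3,3,0,3,4,3,0,4],
  [2,0,4,2,2,2,0,4,2,2,0],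
  [2,2,0,2,0,2,4,3,3],
  [2,2,4,2,4,2,0,2],
  [0,3,4,3,0,3,4,3,4,2,4],
  [0,2,4,2,2,0,2,0,2,0],
  [2,4,2,2,4,2,2,0],
  [0,2,2,0,2,4,2,0,4,2],
  [3,3,0,4,3,0,4,3,0],
  [2,2,2,0,3,0,3,3,0,3,3],
  [2,0,4,2,4,3],
  [0,2,2,0,4,2,2,2,0,2,4],
  [3,3,0,3,0,3,4,3,3],
  [0,2,4,2,0,3,4,3,3,0,2,4],
  [0,2,2,0,4,2,0,2,4],
  [2,4,2,0,2,0,4,2,0],
  [3,4,3,3,4,2,2,4,2,0,3],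
  [2,2,2,0,4,3,4,2],
  [0,2,2,4,2,2,0,2,2,2],
  [0,2,2,2,4,3,4,2,2],
  [0,3,3,0,4,2],
  [0,3,4,3,3,0,3,3],
  [3,4,3,3,0,3,0,3],
  [0,3,4,3,3,4,2,2,4],
  [0,2,2,4,2,0,4,2,4,2],
  [0,2,2,4,2,4,3,3,0],
  [2,4,2,0,2,2,0,3,3],
  [0,2,4,2,2,4,3,3,0],
  [2,4,2,0,3,4],
  [3,4,3,3,4,2,0,2,2],
  [0,3,3,0,4,3,0,3,0],
  [3,0,4,3,0,4,3],
  [2,2,0,4,2,2,2],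
  [2,2,0,4,2,2,2,0,2,4,2],
  [0,3,3,0,4,3,0,3,0,4],
  [3,3,0,3,0,3,4,3,0],
  [2,4,2,2,0],
  [0,2,4,2,2,0,2,0,3],
  [2,2,2,4,2,4,2,2],
  [3,4,3,3,4,2,2,0,3,3],
  [0,3,0,4,3,4,3],
  [2,2,4,2,2,0,2],
  [0,3,4,3,0,3,3,0],
  [2,2,0,4,2,0,2,4,3],
  [3,3,4,3,4,3,0,3,0],
  [0,2,4,2,2,4,3,0,2,2],
  [0,3,3,4,3,0,3,4,3,0],
  [2,2,4,2,0,2,4,2,0]]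

/-- Conjugating words, part 5. -/
def orbit5 : List (List ℕ) := [
  [2,2,2,0,4,3,3,0,3,0],
  [2,2,4,2,2,0,3,4,2],
  [3,3,4,3,0,2,4,2,0],
  [0,2,2,0,2,0,2,4],
  [3,3,0,3,0,2,0,2,0,3,3],
  [3,3,0,3,0,2,0,2,0,3,0],
  [2,0,4],
  [2,2,0,2,0,4,3,0,3,0,2,2],
  [0,2,2,2,4,2,0],
  [2,2,2,0,2,0,2,2,0,2,2],
  [2,2,2,0,2,0,2,2,0,2,0,2,0],
  [3,3,0,3,0,2,0,2],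
  [0,2,2,2,0,2,0],
  [3,3,0,3,4,3,3,4,2,2,0],
  [3,4,3,3,0,2,4,2,4,2,0,2],
  [2,2,0,2,4,2,2,4,3,3,0,3,3],
  [3,0,4,3,4],
  [2,4,2,2,0,3,3,4,2,4],
  [0,2,4,2,2,0,3,3,0,2,4],
  [0,3,4,3,0,2,4,2,2,0],
  [0,2,2,2,4,3,0,2,4,2],
  [2,2,2,0,2,0,2,2,0,2],
  [3,3,0],
  [3,3,0,4,2,4,3,3],
  [2,2,0,4,3,4],
  [2,2,0,2,4,2,2,0,4],
  [0,2,2,2,0,4,3,3,0],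
  [2,0,4,2,0,4,2,2,0],
  [0,2,2,2,0,3,0,4,3,4],
  [3,3,0,3,4,3,3,0,3,4],
  [3],
  [2,2,2,0,2,0],
  [2,2,2,0,3,0,3,3],
  [2,2,0,2,0,3,0,3,0,2,2],
  [2,2,0,2,0,3,0,3,0,2,0,2,0],
  [0,3,0,4,3,4],
  [2,4,2,2,0,3,4,3,3,0,2,2],
  [0,3,3,0,3,4,3,3,4,2,2,0],
  [0,2,2,0,2,4,2,2,4,3,3,0,3,3],
  [2,2,0,2,0,3,0,3,0,2],
  [0,3,3,0],
  [3,4,3,0,2,4,2,2,0],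
  [3,4,3,3,4,2,2,0,4,2],
  [2,2,2,0,3,0,4,3,4],
  [2,4,2,2,0,3,3,0,2,4],
  [2,0,4,2,4,2,4,2,4,2],
  [0,3,3,0,4,2,4,3,3],
  [2,2,2,4,3,0,2,4,2],
  [0,2,2,0,4,3,4],
  [0,2,2,0,2,4,2,2,0,4],
  [2,0,4,2,2,0,3,4,2],
  [2,2,2,0,4,3,3,0],
  [0,3],
  [0,2,2,2,0,2,0,2],
  [2,2,0,2,0,3,0,2],
  [0,2,2,0,2,2,0],
  [3,3,4,3,0,3,4],
  [2,2,4,2,4,2,0,4],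
  [2,2,2,0,4,2,4,3,0],
  [3,3,0,3,0,2,0],
  [2,2,0,2,0,3,0,3,0,2,0],
  [3,4,3,3,0,3,0,2,0],
  [0,2,2,2,4,3,4,3,3,0],
  [2,2,0,4,2,0,4,2,2,2,4],
  [0,2,4,2,2,0,2,2,4,3,3],
  [0,2,2,2,0,3,0],
  [0,2,0,4,2,2,2,4,2],
  [2,2,4,2,0,2,4,2],
  [0,3,4,3,3,0,4],
  [0,3,0,4,2,2,2,4],
  [0,2,4,2,2,0,2,2,0],
  [2,4,2,2,0,3,4],
  [2,2,0,2,4,2,4,2,2,0],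
  [3,4,3,3,0,2,4,2],
  [3,0,4,2],
  [2,2,4,2,4,2,4,3],
  [0,2,2,2,4,2,4,2,2,0,3,0],
  [2,4,2,2,0,3,4,3,3,0],
  [2,2,4,2,4,2,0,2,4,2,4],
  [0,2,2,2,4,3,4,3,0,3,0],
  [2,2,2,0,4,2,4,3,3],
  [2,4,2,2,4,2,2,2,0],
  [0,2,2,4,2,2],
  [0,2,2,2,4,2,4,3,3],
  [0,2,2,4,2,0,4,3,3,0,2],
  [2,0,4,2,2,2,0],
  [2,2,2,0,2,4,3,3],
  [2,0,4,2,4,2,4,2,4,2,0],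
  [0,2,2,0,2,4],
  [0,3,4,3],
  [0,2,2,0,2,2,4,2,2,2,4],
  [2,4,2,2,0,2,0,2],
  [2,4,2,2,0,3,0,2],
  [0,2,2,2,0,4,3,4,3,4],
  [0,3,4,3,3,4,2,2,0],
  [2,2,2,0,2,4,2,2,4],
  [2,2,0,2,4,2,2,4,2,2,2,0],
  [2,2,2,0,3,4,3,0,2,4,2],
  [0,2,2,0,2,4,2,2,4,2,2,0],
  [3,3,0,3,4,3,3,4,2]]

/-- Conjugating words, part 6. -/
def orbit6 : List (List ℕ) := [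
  [2,2,2,4,2,4,2,2,0,3,0,2],
  [3,4,3,3,0,3],
  [0,2,4,2,2,0,2,0,3,0],
  [3,3,0,4,3,4,2,2],
  [2,2,0,2,4,3,3,0],
  [2,0,4,2,2,0,3,3,4,2],
  [3,3,0,4,3],
  [2,2,0,2,4,2,2],
  [0,2,2,2,0,4,2,2,0,2,0],
  [2,2,4,2,0,4,3,3,0,2,0],
  [0,2,4,2,2,4,2,0,3,3,0],
  [0,2,2,4,2,0,2,4,2,4,2,2],
  [2,4,2,2,0,2,2,4],
  [3,3,0,3,4,2,2,0,4],
  [0,2,4,2,2,0,3,3,4,3,0],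
  [3,4,3,0,3,0,4,2],
  [2,2,2,0,2,4,2,0,3],
  [2,0,4,2,2,4,2,2,2],
  [2,2,2,4,3,4,3,3,0,2,0],
  [3,4,3,0,3,4,2,2,0],
  [2,2,0,4,2,2],
  [2,4,2,0,2,0,4],
  [0,3,4,3,3,0,3,0,2,0,2],
  [2,4,2,2,0,2,2,0,2],
  [2,2,2,0,4,3,4,3,0,4,3],
  [2,2,2,0,2,4,2,0,3,4],
  [3,3,4,3,4,3,0,3,4,3],
  [0,3,3,4,3,0,3,4,3,4,3],
  [0,2,2,2,0,4,3,3,0,3,0,2],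
  [3,0,4,3,3,0,2,2,4],
  [0,3,4,3,0,3,0,2,4,2,0,4],
  [3,3,0,3,4,3],
  [2,2,0,4,2,4,3],
  [0,2,4,2,0,2,2,0,4,3],
  [0,2,2,0,2,0,4,3,0,3],
  [2,4,2,2,0,2,2],
  [3,0,4,3,3,4,3,3],
  [2,2,0,2,4,2,2,4],
  [3,3,0,3,4,2,2,0,2],
  [2,2,0,2,0,3,0,3,0],
  [0,3,0,4,2],
  [2,4,2,2,4,2,2,0,3,4,3],
  [0,2,2,2,0,2,4,2,0,3,4,3],
  [2,0,4,2,4,2,4,2,4,2,0,3],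
  [0,3,3,0,3,4,3,3,4,3,3],
  [0,2,2,0,2,4,2,2,4,3,3,0],
  [0,3,4,3,3,0,2,2],
  [2,4,2,2,4,2,2,2,0,2],
  [2,2,2,0,4,2,0,4,2,2,4],
  [3,4,3,3,0,2,2,0,4],
  [0,2,2,0,4,2,4],
  [0,3,3,0,4,2,2],
  [2,2,2,0,2,4,3,3,0,3,0],
  [2,2,2,0,2,0,4,2,2,4],
  [3,3,0,3,4,3,3,4,3,4],
  [2,0,4,2,2,0],
  [2,2,4,2,0,2,4,2,4,3],
  [0,2,2,0,2,4,2,4,3,4],
  [0,2,0,4,2,2,4],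
  [2,2,2,0,2,0,4,3,0],
  [3,3,0,3,4,3,4,3,3,0],
  [0,2,4,2,0,2,0,3,0,4],
  [2,2,0,2,4,2,4,3,0],
  [2,4,2,2,0,2,0,3,0,3],
  [0,2,2,2,4,2,4,2,2,0,3],
  [0,3,3,0,3,4,3,3,4,2,2,0,2],
  [2,0,4,2,2,4,3,3,4,3,0,2,2],
  [3,0,4,3,3,0,2],
  [0,2,2,4,2,0,2,4,2,4],
  [2,2,4,2,4,2,0,2,4],
  [0,2,2,2,0,3,4,3,0,2,4,2,2],
  [2,2,0,4,2,0,3,3,4],
  [0,2,4,2,2,0,3],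
  [0,2,0,4,2,4,2,4],
  [2,2,0,2,4,2,2,4,2,4,2],
  [0,2,2,2,0,3,4,3,0,3],
  [0,3,4,3,0,3,0,2,0,4,2],
  [2,2,2,0,4,2,2,0,2,4],
  [0,2,2,0,4,3],
  [0,2,4,2,0,2,4,2,2,0],
  [0,3,3,0,4,3,4,2],
  [2,2,0,2,0,3,4,2,2,0],
  [2,0,4,2,2,0,3,0,3],
  [0,2,2,0,2,4,2,2,4,2,2,2],
  [0,2,0,4,2,2,2],
  [0,3,4,3,0,3,4],
  [2,4,2,0,3,4,3,3,0,3],
  [0,3,4,3,3,0,3,0,2],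
  [0,2,4,2,0,2,2,4],
  [3,3,4,3,0,2,0,2],
  [3,4,3,3,4],
  [2,2,2,0,3,4,2,4,2,2],
  [2,2,0,4,2,2,2,0,4],
  [0,3,4,3,0,3,4,3,0],
  [0,2,2,4,2,2,0,2,0,3],
  [3,4,3,0,2,2,2],
  [2,2,2,4,3,4,2],
  [3,3,4,3,4,2],
  [3,4,3,3,4,3,3,4,2,0],
  [2,4,2,2,0,3,3,0,2]]

/-- Conjugating words, part 7. -/
def orbit7 : List (List ℕ) := [
  [2,2,0,2,0,3,4,3,4,2],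
  [0,2,2,0,2,4,2,2,0],
  [0,3,4,3,3,0,2,2,0,3],
  [0,3,3,0,4,3,0,3],
  [0,2,2,2,4,3,0,4,3],
  [2,2,4,2,0,4,2,2],
  [0,3,0,4,3,0,4,3],
  [2,2,2,0,2,4,2,0,4,2],
  [2,4,2,2,0,2,0,3],
  [0,2,2,2,4,2,4,2,2],
  [3,0,4,3,4,3],
  [0,2,2,4,2,2,0,2],
  [3,4,3,0,3,3,0],
  [0,2,4,2,2,0],
  [0,2,2,0,4,2,2,2],
  [0,2,2,0,4,2,2,2,0,2,4,2],
  [3,3,0,4,3,0,3,0,4],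
  [0,3,3,0,3,0,3,4,3,0],
  [3,3,4,3,0,3,4,3,0],
  [3,0,4,2,2,0,4,2,0],
  [0,3,3,4,3,4,3,0,3,0],
  [2,4,2,2,4,3,0,2,2],
  [0,2,2,2,0,4,3,3,0,3,0],
  [0,2,2,4,2,0,2,4,2,0],
  [3,0,4,2,2,4,2,2,0],
  [0,3,3,4,3,0,2,4,2,0],
  [2,2,0,2,0,2,4],
  [2,2,2,0,3],
  [3,3,0,3,4,3,3,4,3,3,0],
  [2,4,2,2,0,3,4,3,3,0,3,3],
  [2,2,0,2,4,2,2,4,3,3,4,3],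
  [0,2,2,4],
  [0,2,2,2,4,3,4],
  [2,2,0,2,2,4,3,4,3],
  [2,2,2,0,2,0,2,2,0,4],
  [0,3,4],
  [2,2,2,0,4,2,2,4],
  [2,0,4,2,2,0,4,3,0],
  [0,2,2,2,4,3,4,3,3,0,2,0,3,3],
  [3,3,0,3,4,2,2,2,4,2],
  [2,4,2,0,3,4,3,3,4],
  [2,2,2,0,4,3,4],
  [2,2,0,2,0,3,0,3,0,2,0,2,4],
  [0,3,3,0,3,4,3,3],
  [0,2,2,0,2,4,2,2,4,2,4],
  [2,2,2,0,3,4],
  [3,4,3,3,0,2,0,2,2,2],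
  [3,3,4,3,4,3,4,3],
  [2,4,2,0,2,0,3,4,3,0],
  [2,2,0,2,4,2,2,4,2,2,0],
  [0,2,2,2,0,3,4,3,0,2,4,2],
  [0,3,3,0,3,4,3,3,4,2],
  [2,2,0,2,4,2,2,2,4,2],
  [0,3,3,0,4,3],
  [0,2,2,2,4,2,4,2,2,0,3,0,2],
  [2,4,2,2,0,2,0,3,0],
  [0,3,3,0,4,3,4,2,2],
  [2,0,4,2,2,0,3,0],
  [0,3,4,3,3,0,3],
  [0,2,2,4,2,0,4,3,3,0,2,0],
  [2,2,2,0,4,2,2,0,2,0],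
  [2,4,2,2,4,2,0,3,3,0],
  [0,2,2,0,2,4,2,2],
  [2,2,4,2,0,2,4,2,4,2,2],
  [0,2,4,2,2,0,2,2,4],
  [3,0,4,3,3,0,2,0,4],
  [2,4,2,2,0,3,3,4,3,0],
  [0,3,4,3,0,3,0,4,2],
  [0,2,2,2,0,2,4,2,0,3],
  [3,3,0,3,0,2,0,4,2],
  [3,4,3,0,3,0,3],
  [2,4,2,2,0,3,3,4,2,4,2],
  [0,3,4,3,0,2,4,2,2,0,2],
  [0,2,2,2,0,4,2,0,2],
  [2,2,2,0,4,3,4,3,4,3],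
  [2,4,2,2,0,4,3,0,3,3],
  [2,4,2,0,2,2,2,4],
  [2,2,0,2,0,4,3,3,0],
  [0,2,2,0,2,0,4,3,3],
  [0,2,2,2,0,4,3,0,3,3,4],
  [2,2,2,0,4,2,0,4,2],
  [0,2,4,2,0,3,4,3,3,0],
  [3,3,0,3,0,4,3],
  [2,4,2,0,2,2,4,3,4],
  [3,3,0,3,0,2,4,2,0,4],
  [0,2,2,2,0,4,3,0],
  [0,2,4,2,0,2,2,4,3],
  [3,4,3,0,3,3,4],
  [2,2,0,4,2,0,4,3],
  [3,3,0,3,0,4,2,2,0,2],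
  [0,3,4,3,3,0,2,2,4,3],
  [2,2,0,2,0,3,4,3,0,4,2],
  [3,3,0,3,4,3,3,4,2,2,4,2],
  [0,3,4,3,0,3,0,2,4,2,4],
  [0,2,0,2],
  [3,3,0,3,0,2],
  [0,2,2,0],
  [0,2,2,2,0,2],
  [2,2,0,2,0,2],
  [0,3,3,0,3]]

/-- Conjugating words, part 8. -/
def orbit8 : List (List ℕ) := [
  [3,4,3,0,2,2,2,4],
  [0,3,3,4,3,4,3,0,3,3,0],
  [2,2,0,2,2,4,2,2,2,0,2],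
  [3,0,4,2,2,4,2,4],
  [2,2,4,2,2,0,2,0,2],
  [0,2,2,0,2,0,2,4,2,2,0],
  [2,2,4,2,2,0,2,2,2,0,2],
  [2,0,4,3,3,4,3,4,3],
  [2,2,0,4,2,2,2,0,2],
  [2,0,4,3,3,4,3,4,2,2],
  [3,0,4,2,2,0],
  [2,2,0,4,2,0,3,3],
  [0,3,4,3,0,3],
  [0,2,2,4,2,0,2],
  [2,2,0,4,2,0,2],
  [0,2,2,0,2,2,4,2,2],
  [2,4,2,2,4,2,2,0,3,0],
  [0,2,2,4,2,0,2,0,3,3],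
  [2,4,2,2,4,2,2,2,0,3],
  [2,2,0,2,2,4,2,2,2,0,3],
  [2,2,0,4,2,0,3,3,4,3],
  [0,2,2,4,2],
  [3,4,3,3,0,3,0,2,4,2,2],
  [2,4,2,2,4],
  [0,3,4,3,3,4,2,2],
  [0,2,2,0,4,2,2,0,2],
  [3,4,3,3,0,3,0,2,4,2],
  [2,2,4,2,2,0,2,0,3,0],
  [0,2,2,2,0,3,0,2,4],
  [0,2,4,2,2,4,2,2],
  [0,3,4,3,3,0,2,0,4],
  [3,4,3,3,4,3,3],
  [2,2,4,2,2,0,3],
  [0,3,3,4,3,0,3,0],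
  [0,2,4,2,2,4,2,0,3],
  [0,2,4,2,2,0,3,4,3,0],
  [0,2,2,2,4,3,0,2],
  [0,3,3,0,3,0,2,4,2,0],
  [0,3,3,0,4,3,3,0],
  [2,4,2,2,0,2,0,3,4,3],
  [0,3,3,4,3,0,2,0],
  [2,2,4,2,2,0,2,2],
  [0,3,3,4],
  [3,3,0,3,4,2,2,2,4,3],
  [3,4,3,3,4,2],
  [0,2,2,4,2,4,2,0,2,2,0],
  [0,3,4,3,3,4,3],
  [2,4,2,2,4,2,2,2],
  [2,4,2,2,0,2,0,3,4],
  [0,2,2,4,2,0,3,0,3,3],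
  [0,2,4,2,2,4,3],
  [0,2,2,4,2,0,2,0,2],
  [0,2,2,0,2,2,4,3],
  [2,2,0,4,2,4,3,3,4,3],
  [2,2,0,2,4,2,2,2,4,3],
  [2,2,0,4,2,0,3,3,0],
  [2,4,2,0,2,0,4,3,0],
  [0,2,4,2,2,0,3,0,4,2],
  [0,3,4,3,3,4,3,0,2,2],
  [2,2,2,4,2,0],
  [0,2,4,2,2,0,2,0,3,4,3],
  [3,3,4,3,0,2,0],
  [3,3,0,4,3,3,0],
  [3,0,4,3,3,0,2,2,4,3],
  [3,3,4],
  [2,0,4,2,2,0,3,3,4,3],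
  [0,2,2,4,2,2,0,2,2],
  [3,4,3,3,4,3],
  [0,2,4,2,2,4,2,2,2],
  [0,2,4,2,2,0,2,0,3,4],
  [0,3,4,3,3,4,2],
  [2,2,4,2,0,3,0,3,3],
  [2,4,2,2,4,3],
  [2,2,4,2,4,2,0,2,2,0],
  [2,2,0,2,2,4,3],
  [3,4,3,3,0,2,4,2,0,2],
  [3,4,3,3,4,3,0,2,2],
  [2,4,2,2,0,3,0,4,2],
  [2,2,2,0,3,4,3,4,3],
  [2,2,4,2,0,2,0,2],
  [0,2,4,2,0,2,0,4,3,0],
  [2,2,0,2,4,2,0],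
  [2,2,4,2,0,2,0,3,3],
  [2,2,0,2,2,4,2,2],
  [0,2,4,2,2,4,2,2,0,3,0],
  [0,3,4,3,3,0,3,0,2,4,2],
  [2,2,2,0,2,0,3,4,3,3],
  [0,2,4,2,2,4,2,2,2,0,3],
  [0,3,4,3,3,0,3,0,2,4,2,2],
  [0,2,4,2,2,4],
  [3,4,3,3,4,2,2],
  [2,2,2,0,3,0,2,4],
  [2,4,2,2,4,2,2],
  [2,2,2,4,3,4,3,3,0,2,4],
  [2,2,0,2,4,2,4,2,2,4],
  [2,2,4,2],
  [0,2,2,4,2,2,0,3],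
  [2,4,2,2,0,3,4,3,0],
  [3,4,3,3,0,2,0,4],
  [2,4,2,2,4,2,0,3]]

/-- Conjugating words, part 9. -/
def orbit9 : List (List ℕ) := [
  [3,3,4,3,0,3,0],
  [0,3,4,3,3,4,3,3],
  [2,2,0,4,2,2,0,2],
  [3,3,0,3,0,2,4,2,0],
  [2,2,2,0,4,3,0,2],
  [3,3,0,3,4,3,3,4,2,2,0,2],
  [0,2,4,2,2,0,2,0,3,0,3],
  [2,2,2,4,2,4,2,2,0,3],
  [2,4,2,2,0,4,3,0,3,3,0,2,2],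
  [3,3,0,3,4,2,2],
  [2,2,2,0,3,4,3,0,2,4,2,2],
  [0,2,2,0,2,4,2,2,4,2,4,2],
  [0,2,2,0,4,2,0,3,3,4],
  [2,2,0,4,3],
  [2,4,2,0,2,4,2,2,0],
  [3,4,3,0,3,0,2,0,4,2],
  [2,2,2,0,3,4,3,0,3],
  [2,2,4,2,0,2,4,2,4],
  [0,2,2,4,2,4,2,0,2,4],
  [0,2,2,2,0,4,2,2,0,2,4],
  [2,2,0,2,4,3,3,0,3],
  [0,2,2,0,2,0,3,4,2,2,0],
  [2,2,0,2,4,2,2,4,2,2,2],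
  [2,4,2,2,0,3],
  [2,0,4,2,4,2,4],
  [3,3,0,4,3,4,2],
  [2,2,2,0,2,4,2,0,3,4,3],
  [2,4,2,2,0,3,3,4,2,0,4,3],
  [3,3,0,3,4,3,3,4,3,3],
  [2,2,2,0,4,2,0,4,2,2,0],
  [0,3,4,3,3,0,2,2,0,4],
  [2,2,0,4,2,4],
  [3,3,0,3,4,3,4,3,3,4],
  [3,3,0,4,2,2],
  [2,2,0,2,4,2,2,4,3,3,0],
  [3,4,3,3,0,2,2],
  [2,2,0,2,4,3],
  [2,2,2,0,2,4,3,3,0,3,4],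
  [0,3,3,0,3,4,3,3,4,3,4],
  [2,2,4,2,4,2,0,2,4,3],
  [2,2,2,0,2,0,4,2,2,0],
  [2,2,0,2,4,2,4,3,4],
  [0,2,2,2,0,2,0,4,3,0],
  [2,0,4,2,2,4],
  [0,3,3,0,3,4,3,4,3,3,0],
  [2,4,2,0,2,0,3,0,4],
  [0,2,2,0,2,4,2,4,3,0],
  [0,2,4,2,2,4,2,2,0,3,4,3],
  [2,0,4,3,3,4,3,4,3,0],
  [3,3,4,3,0,3,0,4],
  [2,4,2,0,2,4,3,3],
  [0,2,2,2,4,2,4,2,2,2],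
  [0,3,4,3,0,2,4,2,2,0,3],
  [2,2,0,2,0,4],
  [2,2,4,2,2,0,3,0,3],
  [2,2,0,4,2,0,3],
  [0,2,4,2,2,4,3,3],
  [2,2,2,0,4,3,3,0,3,0,4],
  [2,2,2,0,3,4,2,4,2],
  [2,2,0,2,2,4,2,4,2],
  [0,3,3,4,3,0,4,2,2],
  [0,3,3,0,3,0,2,4,2,4,2],
  [2,4,2,2,0,3,3,0,3],
  [3,4,3,0,3,0,2,0],
  [0,2,4,2,0,2],
  [2,4,2,0,2,4,2,0,3,3],
  [2,2,2,4,3,4,2,4],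
  [2,2,2,0,3,0,4,2],
  [2,2,0,2,4,2,4,2,2],
  [0,2,2,2,0,2,4,2,0],
  [2,4,2,0,3,3],
  [0,2,4,2,2,0,2,0],
  [2,2,4,2,0,3,0],
  [2,4,2,2,4,2],
  [3,4,3,3,0,2,2,0],
  [2,2,0,2,0,3,0,3,4],
  [3,3,0,3,0,2,4,2,4],
  [0,2,4,2,0,2,4,2],
  [2,2,4,2,4],
  [2,2,2,0,2,4,3,4,3],
  [0,2,2,0,2,4,2,0,2,4],
  [0,2,0,4,3,3,4,3,4],
  [0,2,2,0,4,2,0,2,2],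
  [3,4,3,3,0,2,2,0,3,4],
  [0,3,4,3,0,3,3,4,2],
  [2,2,0,2,0,3,0,4,3,0,4],
  [2,2,2,4,2,4],
  [2,2,2,4,2,4,3,4],
  [0,2,2,2,0,3,0,4,3,3],
  [3,3,4,3,0,4,3],
  [0,2,2,0,2,4,2,4,3],
  [3,3,0,3,4,2,4,2,2],
  [3,3,0,4,3,0,2,4],
  [2,0,4,2,2,0,3,4,2,2],
  [2,2,2,0,2,0,4,2,4,3],
  [0,2,2,2,4,2,0,2],
  [2,2,2,0,4,3,4,3,4,3,0],
  [2,4,2,2,0,3,0,4,2,2],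
  [0,2,4,2,2,0,3,3],
  [2,2,2,0,4,2,2,0]]

/-- Conjugating words, part 10. -/
def orbit10 : List (List ℕ) := [
  [0,2,2,2,0,4,2,0,2,2,4],
  [0,2,2,4,2,0,4],
  [2,2,2,4,2,0,4,2],
  [0,2,2,2,0,2,0,4,3],
  [2,2,2,0,4,2,0,2,2],
  [2,4,2,2,0,3,3,4],
  [0,2,2,0,4,3,4,2,2],
  [2,2,2,0,4,2,0,4],
  [0,2,2,2,4,3,0,2,4],
  [2,2,4,2,0,4,3,3],
  [0,3,0,4,3,3,4],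
  [0,2,2,4,2,0,4,3,3,0],
  [0,2,4,2,0,3,4,3,3,0,3],
  [3,4,3,0,3,4],
  [3,4,3,3,0,3,0,2],
  [2,2,4,2,2,0,2,0,3],
  [3,0,4,2,2,0,2],
  [0,2,2,2,4,3,4,2],
  [0,3,3,4,3,0,2,0,2],
  [0,3,4,3,3,4],
  [3,3,4,3,4,2,0,2,2],
  [2,0,4,2,2,2,0,4,2,2],
  [0,3,3,4,3,4,2],
  [2,2,0,2,4,2,2,0],
  [3,4,3,0,3,4,3,0],
  [0,2,2,0,2,0,3,4,3,4,2],
  [2,4,2,0,2,2,4],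
  [0,2,2,4,2,0,4,2,2],
  [2,2,2,4,3,0,4,3],
  [0,2,4,2,2,0,3,3,0,2],
  [0,3,4,3,3,4,3,3,4,2,0],
  [3,4,3,3,0,2,2,0,3],
  [3,3,0,4,3,0,3],
  [2,0,4,2,2,2],
  [3,3,0,3,0,2,0,4,2,0],
  [2,2,2,0,2,0,2,2,0],
  [0,3,3,0,4,3,0,2,0],
  [3,0,4,2,2,0,2,0,4],
  [2,4,2,2,0,3,4,3,4],
  [2,2,0,4,2,0,3,4],
  [0,2,2,0,2,2,4,3,3],
  [2,2,2,0,2,0,3,0,4,3],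
  [0,2,4,2,0,2,4],
  [2,2,2,4,3,4,3,0,3],
  [0,3,3,0,4],
  [0,3,4,3,0,3,0,4,2,2],
  [3,4,3,0,3,0],
  [2,2,2,0,3,4,3,4],
  [2,2,0,4,2,2,0,2,2],
  [2,2,4,2,4,3],
  [0,3,3,4,3,4],
  [3,3,4,3,4,3,0,3],
  [2,4,2,0,2,4,2,2],
  [3,4,3,0,3,0,2,0,4],
  [0,2,2,4,2,0,3,0,3,0,2],
  [0,3,3,0,3,4,3,0,4,3],
  [0,3,4,3,3,0,2,4,2,0],
  [2,0,4,3,3,4,3],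
  [3,0,4,2,2,0,2,0,4,3,3],
  [2,2,4,2,4,2,0,2,2,2],
  [0,3,0,4],
  [2,2,2,4,2,0,3,3,4,3],
  [2,0,4,3,3,0,3,0,4],
  [3,3,4,3,4,3,0,2],
  [0,2,0,4,3,3],
  [2,2,2,0,2,4,3,4,3,3],
  [2,4,2,0,3,3,4,2],
  [2,0,4,3,3,0,4],
  [2,4,2,0,3,3,4,3],
  [3,3,0,3,4,3,4,3,3],
  [2,2,0,2,4,2,4],
  [2,4,2,0,2,4,2,4],
  [3,3,0,4,2,4],
  [0,2,2,0,4,2,0,4,2],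
  [0,2,2,2,0,4,2,0,4,2,2],
  [0,2,4,2,0,2,4,2,0],
  [2,2,2,0,3,4,2,4],
  [0,3,4,3,3,4,2,4,2],
  [2,2,2,4,3,0,2],
  [0,3,0,4,3,0],
  [2,4,2,2,0,4,3],
  [2,2,4,2,4,2,4,3,0],
  [2,2,2,0,3,4,3,0,4,3],
  [2,2,2,0,2,4,2,2,4,3],
  [3,4,3,0,3,3,0,2],
  [0,3,4,3,3,4,2,2,0,3],
  [2,2,0,2,0,4,3,3,0,2],
  [2,2,0,2,0,3,4,2,2,4],
  [0,2,4,2,2,4,3,3,0,3],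
  [2,2,2,0,4,3,3,4],
  [0,3,4,3,3,4,3,0],
  [0,3,4,3,3,0,2,0,4,3,3],
  [0,2,2,4,2,2,0,2,2,2,0,3],
  [2,2,0,2,0,2,4,2,2,4],
  [2,2,2,0,2,4,2,0,4,3],
  [2,4,2,0,2,2,0],
  [3,3,0,3,0,4,2,2,0],
  [0,2,4,2,2,0,3,0,4],
  [0,2,4,2,2,4,2,0,3,3],
  [2,4,2,2,0,4]]

/-- Conjugating words, part 11. -/
def orbit11 : List (List ℕ) := [
  [2,0,2],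
  [2,2,0],
  [2,2,2,0,2],
  [0,3,3,0,3,0,2],
  [0,2,2,0,2,0,2],
  [3,3,0,3],
  [2,2,2,4,2,4,2,2,0,3,4],
  [3,3,4,3,4,3,0,3,3,0],
  [0,2,0,4,3,3,4,3,4,3],
  [2,2,0,2,0,2,4,2,2,0],
  [0,2,2,4,2,2,0,2,2,2,0,2],
  [2,2,0,4,2,2,0,2,0,2],
  [0,2,2,0,4,2,2,2,0,2],
  [0,3,0,4,2,2,4,2,4],
  [3,0,4,2,2,0,2,4],
  [0,2,2,4,2,2,0,2,0,2],
  [3,4,3,0,2,2],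
  [3,4,3,0,3],
  [0,2,2,0,4,2,0,2],
  [0,2,2,0,4,2,0,3,3],
  [2,2,4,2,0,2],
  [0,3,3,0,3,4,3,3,4,3,3,0],
  [3,0,4,3,3,0,2,2,4,2],
  [3,4],
  [0,2,2,2,0,4,2,2,4],
  [2,2,0,2,4,3,4,3,0],
  [2,2,2,4,3,4,3,3,0,2,0,3,3],
  [2,4,2,2,0,3,4,3,4,3,0,3],
  [2,2,4],
  [2,2,0,2,2,4,2,2,2,4,3,3],
  [2,2,0,2,0,3,0,3,0,4],
  [2,2,2,4,3,4],
  [0,2,2,0,2,2,4,3,4,3],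
  [0,2,2,2,0,4,3,4],
  [3,3,0,3,4,3,3],
  [2,2,2,0,2,0,2,2,0,2,0,2,4],
  [2,2,2,0,2,4,2,2,2],
  [2,2,0,2,4,2,2,4,2,4],
  [0,2,2,2,0,3,4],
  [3,4,3,3,0,2,2,4,3,0],
  [0,3,3,4,3,4,3,4,3],
  [0,2,4,2,0,2,0,3,4,3,0],
  [2,2,2,0,3,0,2,2,4,3],
  [2,4,2,0,2,4],
  [2,2,0,2,2,4,3,3],
  [2,0,4,2,2,2,4,3],
  [0,2,4,2,2,0,3,4,3,4],
  [3,3,0,4,3,0,2,0],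
  [2,2,0,2,0,2,4,3,4],
  [0,2,2,2,4,3,4,3,0,3],
  [3,3,0,4],
  [3,4,3,0,3,0,4,2,2],
  [2,2,4,2,0,3,0,3,0,2],
  [0,2,2,0,4,2,2,0,2,2],
  [0,2,2,2,0,3,4,3,4],
  [0,2,4,2,0,2,4,2,2],
  [0,3,4,3,0,3,0],
  [3,3,4,3,4],
  [0,2,2,4,2,4,3],
  [0,3,3,4,3,4,3,0,3],
  [0,3,4,3,0,3,0,2,0,4],
  [3,3,0,3,4,3,0,4,3],
  [3,4,3,3,0,2,4,2,0],
  [3,3,0,3,0,4,2,0],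
  [2,2,0,2,0,4,3,0,2],
  [0,2,2,4,3,0],
  [3,4,3,3,0,3,0,2,0,2],
  [0,2,4,2,2,0,2,2,0,2],
  [0,2,2,0,4,2,2],
  [0,2,4,2,0,2,0,4],
  [3,0,4,3,4,3,0,2,0],
  [0,2,2,2,4,3,4,3,3,0,2,0],
  [2,4,2,2,4,2,0,3,3,4,2],
  [2,2,0,2,0,4,3,0,3],
  [2,2,2,0,4,3,3,0,3,0,2],
  [0,3,3,4,3,4,3,0,3,4,3],
  [3,3,4,3,0,3,4,3,4,3],
  [3,4,3,0,3,0,2,4,2,0,4],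
  [0,3,3,0,3,4,3],
  [3,3,0,3,4,2,2,2,4],
  [0,2,2,2,0,2,4,2,0,3,4],
  [2,4,2,0,2,2,0,4,3],
  [3,0,4,3,3,0,2,0,2],
  [0,2,2,0,4,2,4,3],
  [0,2,4,2,2,0,2,2],
  [2,2,0,2,0,3,0,4],
  [0,2,2,0,2,4,2,2,4],
  [0,3,0,4,3,3],
  [2,2,4,2,0,3,0,4],
  [3,3,4,3,0,2,0,4],
  [0,3,4,3,3,0,2,4,2,4,2,2],
  [0,3,4,3,3,4,2,2,0,2,0],
  [0,2,4,2,2,0,3,4,3,4,3,3],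
  [0,2,2,4,2,0,3],
  [2,0,4,2,2,4,2,2,2,4],
  [2,2,2,4,2,0,3,3,4],
  [0,2,0,4,3],
  [2,0,4,2,4,2,4,2,2,4],
  [2,2,2,4,2,0,3,3,4,2,2,2],
  [0,2,0,4,2,2]]

/-- Conjugating words, part 12. -/
def orbit12 : List (List ℕ) := [
  [2,2,0,2,2,4,2,0,4,2],
  [2,2,0,2,4,2,2,4,2,2,2,4],
  [2,0,4,2,2,0,4],
  [0,2,2,0,2,4,2,0,2],
  [3,0,4,3,3,0,4],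
  [2,2,2,0,4,2,2,0,4,2],
  [2,0,4,2,2,0,4,2,2,2],
  [2,2,0,2,2,4,3,0,4,3],
  [2,2,0,2,0,3,0,4,3,0],
  [2,2,2,0,3,0,3,3,0,3,0],
  [3,4,3,0,2,4,2],
  [2,2,0,4,2,2,2,0,4,2,0],
  [3,4,3,0,3,3,4,2,4],
  [0,2,2,0,2,0,4,2,4],
  [0,3,4,3,3,4,2,2,0,2],
  [0,2,2,2,4,2,4,3],
  [2,2,0,2,2,4,2,4],
  [0,2,2,0,4],
  [0,2,4,2,2,0,2,2,2],
  [2,0,4,2,4],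
  [0,2,2,4,2,2,0,3,3],
  [2,4,2,0,2,2,0,3],
  [0,2,2,4,2,0,4,2,0],
  [2,2,2,0,4,2,4],
  [2,0,4,3,3,0,4,3,0],
  [2,4,2,2,4,3,0,3],
  [2,2,4,2,0,4,2,4],
  [2,0,4,2,2,0,4,2,2,2,0],
  [0,3,3,0,3,0,4,2,4],
  [2,2,0,4,2,0,4,2,0],
  [2,2,0,2,2,4,2,0,4,2,0],
  [2,2,2,4,2,4,2,2,0,3,0],
  [0,2,4,2,2,0,3,4,3,3,0],
  [0,2,2,4,2,4,2,4,3],
  [0,2,2,4,2,4,2,0,2,4,2,4],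
  [2,2,4,2,4,3,3,4,3],
  [3,4,3],
  [2,4,2,2,0,3,3,4,2,0,4],
  [2,2,0,2,4],
  [2,2,2,4,3,4,3,0,3,0],
  [2,2,2,0,4,3,4,3,4],
  [2,2,2,0,3,4,2],
  [3,0,4,2,2,2,0,3],
  [0,2,4,2,2,4,2,2,2,0],
  [2,2,4,2,2],
  [0,2,4,2,2,0,2,0,2],
  [2,2,2,4,2,4,3,3],
  [2,2,0,2,2,4,2,2,2,4],
  [3,4,3,3,4,2,2,0],
  [0,2,2,2,0,2,4,2,2,4],
  [2,2,4,2,0,4,3,3,0,2],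
  [0,2,4,2,2,0,3,0,2],
  [0,2,2,2,0,3,0,3],
  [0,3,4,3,3,4,3,3,0,2],
  [2,2,0,2,0,3,0,3],
  [0,2,2,2],
  [2,2,0,2,0,2,0],
  [0,3,4,3,3],
  [3,4,3,3,0,3,0,2,4],
  [0,2,2,4,2,0,3,0,3],
  [0,2,4,2,2,4,2,2,0],
  [2,4,2,2,0,2,0,2,0],
  [0,3,3,4,3,0,2,0,2,2],
  [0,2,2,0,2,0,3],
  [3,3,0,3,4,3,0,4],
  [0,3,3,4,3,4,3,0],
  [0,3,3],
  [2,2,0,2,4,2,0,4,2],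
  [2,0,4,2,2,2,0,4,2,2,4],
  [3,0,4,2,2,0,2,0,3],
  [0,2,2,4,2,4,2,0,2],
  [3,4,3,0,3,4,3,4,2,4],
  [3,0,4,2,2,0,4,2,4],
  [0,2,4,2,2,4,2,2,0,3],
  [3,0,4,3,4,3,0,2],
  [2,0,4,2,2,4,2,2,2,4,3],
  [0,2,2,4,2,4,2,0,3],
  [2,2,0,2,4,2,0,4,3],
  [0,2,2,0,4,2,2,0],
  [2,2,0,4,3,3],
  [0,2,2,0,4,2,0,3,0],
  [3,0,4,3,3,0,2,0,4,2],
  [2,2,0,2,2,4],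
  [0,3,3,0,4,3,4,2,2,4],
  [2,2,4,2,4,3,3],
  [0,3,4,3,0,3,0,2],
  [3,4,3,0,3,4,3,3],
  [0,3,3,4,3,4,3],
  [0,2,2,4,2,0,2,0],
  [2,4,2,0,2,4,2,4,3,4],
  [3,0,4,2,2,2,4,3],
  [2,2,0,2,0,4,3,3,0,3],
  [2,4,2,0,2,0,4,2,2],
  [0,2,2,4,2,4,2,4,2],
  [2,0,4,2,2,4,3,3,4,3,0,2],
  [0,2,4,2,2],
  [2,2,2,0,3,4,3,3,4,2],
  [0,2,2,2,0,4,2,4,2,4,2],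
  [2,4,2,2,0,3,4,3,3,0,2],
  [3,3,0,3,4,3,3,4,2,2,4]]

/-- Conjugating words, part 13. -/
def orbit13 : List (List ℕ) := [
  [0,3,3,4,3],
  [2,2,0,4,2,0,3,3,4,2],
  [2,2,4,2,0,3,4,3,0,3,3,0],
  [3,4,3,3,0,3,0],
  [0,2,2,2,4,3,4,2,2,2],
  [0,2,4,2,2,4,3,3,0,2],
  [0,2,2,2,0,2,4],
  [3,0,4,3,3,0],
  [0,2,2,4,2,4,2,0,2,0],
  [2,4,2,0,2,4,2,0,3,3,0],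
  [0,2,4,2,2,4,2,0,3,3,4],
  [2,2,2,0,3,4,2,2,2],
  [3,4,3,3,0,2,0],
  [0,3,3,4,3,0,4,2,2,0],
  [2,4,2,0,2,4,2,2,4],
  [2,4,2,2,0,4,3,0],
  [3,0,4,3,4,3,0,2,2,0,2],
  [3,3,4,3,4,3,4,2,0],
  [2,2,0,4,2,0,2,0,4],
  [2,4,2,2,4,3,3,4,3,0],
  [2,4,2,2,0,4,3,0,2],
  [3,3,0,4,2,2,2,0,3],
  [2,0,4,2,2,4,2,0,3],
  [0,2,2,0,2,0,4,2],
  [2,0,4,2,0,4,2,2,4],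
  [2,2,0,4,2,0,4,2,2],
  [2,0,4,2,4,2,0,3,3,0],
  [3,3,0,3,0,4,2,2],
  [0,2,4,2,2,0,3,3,4,3],
  [0,3,3,0,3,0,4],
  [2,2,0,2,0,4,3],
  [2,2,4,2,0,3,0,3,0],
  [2,2,0,2,0,3,4,3,0],
  [3,3,0,4,3,0,4,3],
  [0,2,4,2,0,2,0,4,2,2,0],
  [0,2,2,4,2,0,3,4,3,0],
  [0,2,0,4],
  [2,2,0,2,2,4,2,2,2,4,3],
  [0,3,4,3,0,2],
  [0,2,4,2,0],
  [2,2,0,2,2,4,2,2,2,4,2,2],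
  [2,4,2,2,0,3,4,3,4,3,3],
  [3,4,3,3,4,2,2,0,2,0],
  [3,4,3,3,0,2,4,2,4,2,2],
  [0,3,3,4,3,0,2,0,4],
  [0,2,2,4,2,0,3,0,4],
  [2,2,0,2,4,2,0,2],
  [2,2,2,0,2,4,3,3,0,3],
  [2,2,0,2,0,3,0,4,3,4],
  [2,2,4,2,0,3],
  [0,2,2,2,4,2,0,3,3,4],
  [2,0,4,3],
  [2,2,0,2,4,3,4],
  [2,2,0,2,4,3,4,2,2,2],
  [3,3,0,3,0,2,0,4,2,4],
  [0,2,2,2,4,2,0,3,3,4,2,2,2],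
  [2,0,4,2,2],
  [0,2,2,0,2,2,4,3,0,4,3],
  [2,0,4,2,4,2,4,2,2,0],
  [0,2,2,0,2,2,4,2,0,4,2],
  [3,3,0,3,4,3,3,4,2,2,2,0],
  [3,3,0,3,4,2,4],
  [0,2,2,2,0,2,4,2,4],
  [0,3,3,4,3,0,2,4],
  [2,2,0,2,4,3,4,3],
  [2,2,2,0,4,3,0,3],
  [2,2,2,0,4,3,3,0,2],
  [0,3,3,0,4,2,4,3],
  [0,2,2,0,4,2,4,3,3,0],
  [0,2,2,2,4,2,0,3,4,3,4],
  [2,2,0,4,2,0,4],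
  [0,2,2,2,4,3,0],
  [2,2,2,4,3,0,4],
  [3,3,4,3,0,4,2,2,2],
  [0,2,2,2,4,2,0,4],
  [0,2,0,4,2,2,2,4],
  [0,3,4,3,3,0,2,2,2],
  [0,2,0,4,2,2,4,2],
  [2,0,4,2,2,0,4,3,4],
  [3,4,3,3,0,2,0,4,3],
  [2,2,2,4,2,0,3,4,3],
  [0,3,3,4,3,0,4,2],
  [0,2,4,2,0,2,2,0,4,3,3],
  [3,4,3,3,0,2,2,4,2],
  [2,2,4,2,0,2,0,3],
  [3,3,0,3,4,3,3,4,2,0],
  [0,2,2,4,2,0,2,0,2,4,3],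
  [0,2,2,2,4],
  [0,2,2,2,0,3,4,3],
  [3,3,4,3,4,2,2,0],
  [2,0,4,2,2,2,0,2],
  [2,2,2,0,4,2,2,0,2,4,2],
  [0,2,2,4,2,0,2,4,2,4,2],
  [2,2,2,4,2,4,2,0,2,0],
  [2,4,2,0,3,4,3,3,0,2,0],
  [3,4,3,3,0,3,0,2,2,4],
  [0,3,3,4,3,4,3,0,3,4],
  [2,2,4,2,0,2,4,2,0,3],
  [2,4,2,0,2,4,3,4,2],
  [0,2,2,0,2,2,4,2,4,2,4]]

/-- Conjugating words, part 14. -/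
def orbit14 : List (List ℕ) := [
  [0,3,4,3,3,0,2,0,2,2],
  [2,2,4,2,2,0,3,4],
  [0,2,2,0,2,0,3,4,2],
  [2,4,2,2,4,3,3,4],
  [0,2,4,2,2,4,2,2,4],
  [0,3,4,3,3,0,2,0,3],
  [0,2,2,0,2,4,2,2,4,3,0],
  [0,3,3,4,3,0,3,4,3,4],
  [2,2,2,4,3,4,3,0,3,0,2],
  [3,0,4,2,2,2,0],
  [0,2,4,2,2,0,3,0,2,2],
  [2,2,2,0,4,2,2,0,2,0,3],
  [2,2,4,2,4,3,3,0,2],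
  [3,4,3,3,4,2,2,4,2],
  [0,2,2,4,2,4,2,0,2,4,2],
  [0,2,2,2,0,2,4,2,2],
  [2,4,2,2,0,2,0,3,3,4,2],
  [0,2,4,2,2,0,3,0,3],
  [0,2,2,4,2,0,4,2,0,3],
  [2,2,2,0,4,3,3,0,3,4],
  [2,2,0,2,0,4,3,4,3],
  [2,2,2,4,3,0,2,4,2,0],
  [0,2,2,4,2,0,2,0,2,4],
  [0,2,2,2,4,2],
  [3,4,3,0,3,4,2,4],
  [0,3,3,0,3,0,2,4],
  [0,3,4,3,3,4,3,3,4,2],
  [2,2,0,2,4,2,2,4,3,3,4],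
  [2,2,0,4,2,2,2,0,2,0],
  [2,0,4,3,3,0,3,0],
  [3,3,0,4,3,3],
  [0,2,0,4,2,4,2,2],
  [0,2,2,2,0,4,3,4,3,3],
  [2,2,2,0,4,2,2,0,2,0,2],
  [2,2,2,0,4,3,4,3,0],
  [0,3,3,4,3,4,2,2,0,3],
  [2,2,4,2,4,3,3,4,3,0],
  [2,2,4,2,2,0],
  [0,2,2,2,0,3,4,3,0,4],
  [0,2,2,0,2,2,0,4],
  [2,0,4,2,0,4,2,2],
  [0,3,4,3,3,4,2,0,3],
  [2,2,2,4,3,4,3],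
  [2,2,0,4,2,2,2,4],
  [0,3,4,3,0,3,0,4,3,0],
  [2,2,4,2,0,2,4,2,0,4],
  [2,2,0,4,2,0,2,0],
  [3,4,3,3,0,2],
  [2,2,4,2,2,0,2,4],
  [2,0,4,2,4,2,0,3],
  [2,2,4,2,4,2,2,2],
  [2,2,2,0,3,0,2,4,2,2],
  [2,2,2,4,2,4,2,2,2],
  [2,4,2,0,2],
  [3,4,3,3,4,3,3,4,2,0,2],
  [2,4,2,2,4,3,3],
  [3,3,0,3,0,2,4,2,4,2],
  [0,2,2,4,2,2,0,3,0,3],
  [0,2,2,0,4,2,0,3],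
  [2,0,4,2,2,2,0,4,2],
  [3,3,4,3,4,2,0,2],
  [0,2,4,2,0,2,4,2,0,3,3],
  [0,3,4,3,0,3,0,2,0],
  [0,2,4,2,2,0,3,3,0,3],
  [3,3,4,3,0,4,2,2],
  [0,2,2,0,2,2,4,2,4,2],
  [3,4,3,0,2,4,2,2,0,3],
  [0,2,2,0,2,0,4],
  [0,2,2,2,0,3,0,4,2],
  [0,2,2,0,2,4,2,4,2,2],
  [2,4,2,0,2,0,3,4,3,4],
  [2,2,0,2,2,4,2,0,4],
  [2,2,2,0,4,2,2,0,3],
  [2,0,4,2,2,0,4,3,4,3],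
  [3,4,3,0,3,0,2,4,2,4,2],
  [2,2,0,4,2,4,3,3],
  [0,2,4,2,2,0,3,3,0,4],
  [0,2,2,0,4,2,4,3,3,4],
  [2,4,2,2,0,3,3,0],
  [2,2,0,2,4,2,0,4],
  [2,4,2,2,0,3,4,3,0,3],
  [3,4,3,3,0,2,2,0,2],
  [3,3,0,3,0,2,0,4,2,0,4],
  [2,4,2,2,4,3,3,0,4,3],
  [2,2,0,2,4,2,2,0,2],
  [2,2,0,2,0,2,0,4,3],
  [3,3,0,3,4,3,3,0],
  [0,3,3,0,3,4,3,3,0,4],
  [2,4,2,0,2,0,3,4],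
  [0,2,4,2,0,2,0,3,4,3],
  [3,4,3,0,3,0,2,4,2],
  [0,2,4,2,0,2,0,3],
  [2,2,0,2,4,2,2,4,3,0],
  [2,2,2,0,2,4,2,2],
  [2,2,2,0,4,2,4,2,0,4,2],
  [2,4,2,2,0,3,0,3],
  [2,2,4,2,0,4,2,0,3],
  [0,2,2,2,0,4,3,3,0,3,4],
  [0,2,2,0,2,0,4,3,4,3],
  [0,2,2,2,4,3,4,3,0,3,0,2]]

/-- Conjugating words, part 15. -/
def orbit15 : List (List ℕ) := [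
  [2,4,2,2,0,3,0,2,2],
  [2,2,2,0,2,4,3],
  [2,2,4,2,4,2,0,2,4,2],
  [3,3,4,3,0,3,4,3,4],
  [0,2,2,4,2,4,3,3,0,2],
  [0,2,2,2,0,4,2,2,0,2,0,3],
  [0,3,4,3,3,4,2,2,4,2],
  [0,2,2,2,4,3,0,2,4,2,0],
  [2,2,4,2,0,2,0,2,4],
  [2,2,2,4,2],
  [2,0,4,2,2,4,3,0],
  [3,3,0,3,0,2,4],
  [3,4,3,3,4,3,3,4,2],
  [0,3,3,0,3,4,3,3,4,2,0],
  [2,2,2,4],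
  [2,2,4,2,0,2,0,2,4,3],
  [0,2,4,2,0,3,4,3,3,0,2,0],
  [2,2,2,0,4,3,4,3,0,4],
  [3,3,4,3,4,3,0,3,4],
  [2,2,2,0,3,4,2,2],
  [2,2,2,0,4,3,4,2,2,0],
  [2,2,4,2,0,2,4,2,4,2],
  [0,2,2,2,0,4,2,2,0,2,4,2],
  [0,2,2,2,4,2,4,2,0,2,0],
  [2,2,2,0,3,4,3],
  [0,3,3,4,3,4,2,2,0],
  [2,0,4,2,2,4,3,0,3],
  [2,2,0,2,2,4,2,4,2,4],
  [3,4,3,3,0,2,0,2,2],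
  [0,2,2,4,2,2,0,3,4],
  [2,2,0,2,0,3,4,2],
  [0,2,4,2,2,4,3,3,4],
  [3,4,3,3,0,2,0,3],
  [2,4,2,2,4,2,2,4],
  [2,2,0,4,3,4,2,2,0,2],
  [3,3,0,3,4],
  [2,2,4,2,4,3,3,4],
  [0,2,2,0,2,0,4,3,0,3,0,2,0],
  [2,2,0,2,4,2],
  [3,3,0,4,3,0,3,4],
  [3,3,4,3,4,2,2,4,2],
  [2,0,4,2,2,2,4,2,4,2],
  [3,3,0,3,4,2,2,2],
  [0,2,2,2,0,4,2,4,2,2],
  [2,2,0,2,4,3,3],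
  [0,2,2,4,2,4,2,0,2,4,2,0],
  [0,2,2,2,0,4,3,4,3],
  [3,3,0,4,2,2,2,4],
  [0,3,4,3,3,4,2,0],
  [3,3,0,4,2,4,3,3,0],
  [2,4,2,0,2,4,2,4,3,3,0],
  [0,2,2,0,4,2,2,0,3,4],
  [2,0,4,2,4,2,0,4],
  [2,0,4,2,2,2,4,2,0],
  [0,2,4,2,2,4,3,0,2],
  [0,2,2,0,4,2,0],
  [0,3,3,0,4,3,0,3,3],
  [0,2,2,0,2,2,4,2,0],
  [0,3,3,0,4,3,0,2],
  [0,2,2,2,0,3,0,4,3,4,2],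
  [2,2,4,2,0,2,4],
  [2,2,0,2,4,3,4,2,2],
  [0,3,0,4,2,2,4,2],
  [2,2,2,0,4,3,3,0,3,3],
  [0,3,4,3,3,0],
  [0,2,0,4,2,2,4,3,3],
  [0,2,2,2,4,3,0,2,4,2,4],
  [2,2,0,4,2,0,4,2,2,2],
  [2,4,2,0,2,0,3,4,3,0,2],
  [2,2,2,0,4,3,0,2,2],
  [3,3,4,3,0,4],
  [0,2,2,2,0,3,0,4,3],
  [2,4,2,2,0,3,3,4,2],
  [3,4,3,3,4,3,0,2],
  [2,2,2,0,2,0,4,2],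
  [0,2,4,2,0,2,2,0,4,2],
  [3,3,4,3,0,2,4,2],
  [0,3,3,4,3,0,4,3,3],
  [0,2,2,2,4,2,0,3],
  [3,4,3,3,4,2,2,0,4],
  [2,4,2,2,4,3,3,0,3,0],
  [0,2,2,4,2,0],
  [0,2,2,4,2,4,2,4,3,0],
  [0,2,4,2,2,0,4,3],
  [3,0,4,3,0],
  [2,4,2,2,4,3,3,0,2,2],
  [0,2,2,2,0,2,4,2,2,4,3],
  [0,3,4,3,0,3,3,0,2],
  [3,4,3,3,4,2,2,0,3],
  [2,2,4,2,2,0,2,2,2,0,3],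
  [0,2,2,0,2,0,2,4,2,2,4],
  [3,4,3,3,0,2,0,4,3,3],
  [3,4,3,3,4,3,0],
  [2,4,2,2,4,2,0,3,3],
  [0,3,3,0,3,0,4,2,2,0],
  [2,4,2,2,4,3,3,0,3],
  [0,2,2,2,0,4,3,3,4],
  [0,2,4,2,2,0,4],
  [0,2,2,0,2,0,4,3,3,0,2],
  [3,3,0,3,0,2,0,2,0,4]]

/-- Conjugating words, part 16. -/
def orbit16 : List (List ℕ) := [
  [0,2,4,2,0,2,2,0],
  [0,2,2,0,2,0,3,4,2,2,4],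
  [2,4,2,2,0,3,0,4],
  [2,2,2,0,2,0,2,2,4],
  [0,3,4,3,3,0,2,2,0],
  [2,4,2,2,0,2,0],
  [0,3,4,3,3,0,2,2,0,3,4],
  [3,4,3,0,3,3,4,2],
  [2,0,4,3,3,4,3,4],
  [2,2,0,4,2,0,2,2],
  [0,2,4,2,2,4,2],
  [0,3,3,0,3,0,2,4,2,4],
  [2,2,2,0,3,0,4,3,3],
  [2,2,0,2,4,2,0,2,4],
  [2,2,4,2,4,3,4,3,3],
  [0,2,2,2,4,2,4],
  [0,2,2,4,2,4],
  [2,4,2,0,2,4,2],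
  [0,2,2,4,2,0,3,0],
  [2,2,4,2,4,3,0,3],
  [2,2,0,2,4,2,4,3],
  [0,3,3,4,3,0,4,3],
  [2,0,4,2,4,2,4,2,2,0,4],
  [2,0,4,3,3,0],
  [2,2,2,0,2,4,2,0],
  [2,2,4,2,4,2,4,2,4,3],
  [2,0,4,2,2,0,3],
  [2,2,2,0,4,2,4,2,2],
  [2,2,4,2,4,2,0,2,4,2,0],
  [2,2,2,0,4,3,4,3],
  [0,3,3,0,4,2,2,2,4],
  [3,4,3,3,4,2,0],
  [2,2,2,0,4,2,4,3],
  [2,2,0,2,0,4,3,0,3,0,2,0],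
  [0,2,2,0,2,4,2],
  [3,0,4,3,3,0,2,2],
  [0,3,3,0,3,4],
  [0,3,3,0,4,3,0,3,4],
  [2,2,2,0,4,3,4,2,2],
  [2,2,2,4,3,4,2,2,2,0],
  [2,4,2,0,2,4,3,4],
  [2,2,4,2,4,2,4,2,4],
  [0,2,4,2,0,2,4,2,4,3,3,0],
  [2,2,0,4,2,2,0,3,4],
  [2,4,2,2,4,3,0,3,3],
  [2,4,2,2,4,3,0,2],
  [3,3,4,3,0,3,0,3],
  [2,4,2,0,2,0,3],
  [3,3,4,3,0,3,0,2,2],
  [2,2,0,2,0,4,2,0],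
  [2,4,2,0,2,4,3,3,0],
  [2,4,2,2,0,2,2,4,3],
  [2,0,4,2,4,2,2,0],
  [0,2,2,0,2,0,2,4,2,2],
  [3,0,4,3,0,4],
  [2,0,4,2,2,2,4,2,0,3],
  [3,4,3,3,0,2,0,2],
  [3,3,0,3,4,3,3,4,3],
  [0,2,4,2,2,4,3,4,3,3],
  [0,2,2,2,4,2,4,2,2,4],
  [0,2,2,2,4,3,4,3,0],
  [3,4,3,0,3,4,3,3,0],
  [2,4,2,0,2,4,2,4,3,3],
  [0,2,2,2,0,4,3,3],
  [3,3,4,3,0,2,4,2,0,3],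
  [2,2,2,0,2,4,2,0,2],
  [2,0,4,2,2,4,3],
  [3,3,4,3,0,4,2,2,0,3],
  [0,3,4,3,0,3,3,0,4,2],
  [2,2,0,2,0,3,4],
  [0,2,2,2,4,2,0,3,0],
  [2,2,0,2,4,3,4,3,4,3],
  [0,2,2,2,0,4,2,2,0,3],
  [0,2,2,0,2,2,4,2,0,4],
  [0,2,4,2,0,2,0,3,4,3,4],
  [0,2,2,0,2,0,2,0,4,3],
  [0,2,2,0,4,2,4,3,3],
  [0,2,2,0,2,4,2,2,0,2],
  [0,3,4,3,0,3,0,2,4,2,4,2],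
  [2,2,0,4,2,4,3,3,4],
  [0,2,4,2,2,0,3,3,0],
  [2,4,2,2,0,3,3,0,4],
  [2,4,2,0,2,0,3,4,3],
  [0,2,4,2,0,2,0,3,4],
  [2,0,4,2,2,4,2,2,2,0,4],
  [0,3,4,3,3,0,2,2,0,2],
  [3,3,0,3,4,3,3,0,4],
  [0,2,2,0,2,4,2,0,4],
  [3,3,0,4,3,4,2,2,4,2],
  [0,3,3,0,3,4,3,3,0],
  [0,3,4,3,0,3,0,2,4,2],
  [2,2,0,2,4,2,2,0,2,4],
  [0,3,4,3,0,3,0,3],
  [2,2,2,4,2,4,3,0],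
  [3,3,4,3,0,3,4,2],
  [2,0,4,2,2,0,3,4,3],
  [2,2,4,2,0,3,4],
  [0,3,4,3,0,3,3,0,4],
  [0,2,4,2,2,0,2],
  [0,2,2,2,4,2,0,3,3]]

/-- Conjugating words, part 17. -/
def orbit17 : List (List ℕ) := [
  [2,4,2,2,4,2,0],
  [0,2,2,4,2,0,4,2,2,2],
  [0,2,0,4,3,3,4],
  [3,3,0,4,3,0,4,3,3],
  [0,2,2,0,2,4,2,4,3,0,4],
  [3,4,3,3,0,2,2,4],
  [2,2,2,0,4,2,0,3],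
  [0,2,2,2,0,2,0,4,2,4],
  [2,2,4,2,0,4,2],
  [0,2,2,2,0,2,0,4,2,2],
  [2,2,2,0,3,0,4],
  [3,4,3,0,3,0,2,4,2,0],
  [2,2,0,2,0,3,0,4,3],
  [0,2,4,2,0,2,4,2,0,4],
  [3,3,4,3,0,2],
  [2,2,4,2,0],
  [2,2,0,4,3,4,2],
  [0,2,4,2,0,2,4,2,4,3,4,3],
  [3,3,4,3,4,3,0,3,3],
  [0,3,0,4,2,2,2],
  [2,2,2,4,2,0,3,3,4,2,2],
  [0,3,4,3,0,3,4,3,0,2],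
  [2,2,4,2,4,3,0,3,3],
  [3,3,0,3,4,3,3,0,3],
  [0,3,4,3,3,0,3,0,3,0],
  [3,4,3,0,2,2,4],
  [0,2,0,4,2],
  [3,3,4,3,4,2,0],
  [0,2,4,2,2,4,3,4],
  [2,2,4,2,4,2,0],
  [0,3,3,0,4,3,0,4],
  [2,4,2,0,3,3,4,3,3],
  [3,0,4,2,2,0,4,2],
  [3,0,4,2,2,4,2,2],
  [0,2,2,0,4,2,0,4,3,3],
  [3,4,3,0,3,4,3,4,2],
  [3,3,0,3,4,3,4,2],
  [2,2,0,2,0,2,4,2,2],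
  [0,2,4,2,2,0,2,2,4,3],
  [2,4,2,2,0,3,4,2],
  [2,0,4,2,4,2,0,3,0],
  [0,3,4,3,3,0,2,0,2],
  [0,3,0,4,3,0,4],
  [2,2,2,4,2,4,2,2,2,0],
  [0,3,3,4,3,0,2,4,2,0,3],
  [2,2,2,4,3,4,3,0],
  [0,3,4,3,0,3,4,3,3,0],
  [2,4,2,2,4,3,4,3,3],
  [0,3,3,0,3,4,3,3,4,3],
  [0,2,0,4,2,2,4,3],
  [0,3,3,4,3,0,4,2,2,0,3],
  [2,2,2,4,2,4,2,2,4],
  [0,2,4,2,0,2,4,2,4,3,3],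
  [3,4,3,0,3,3,0,4,2],
  [0,2,2,2,0,2,4,2,0,2],
  [0,2,2,0,2,0,3,4],
  [2,2,2,4,2,0,3,0],
  [2,2,2,0,4,3,3],
  [2,4,2,0,3,4,3],
  [0,2,2,0,2,4,2,2,4,3],
  [2,2,2,0,4],
  [0,3,3,0,4,3,4,2,2,0],
  [2,2,2,4,2,4,3,3,4],
  [2,2,4,2,4,2,4],
  [0,2,2,2,4,2,4,2,2,0],
  [2,0,4,2,2,0,3,0,4,3],
  [2,2,0,2,0,3,4,2,2,0,2],
  [0,2,4,2,0,2,0,4,2],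
  [0,3,0,4,3,3,4,3],
  [2,2,0,2,0,4,3,0],
  [3,4,3,3,4,2,2,4,2,0],
  [2,4,2,2,0,3,3,4,2,0],
  [2,2,4,2,2,0,2,4,3],
  [0,2,2,2,4,2,0,3,0,3],
  [3,4,3,3,4,2,0,2],
  [2,2,0,2,0,3,4,3],
  [2,4,2,2,0,3,4,3],
  [0,3,4,3,0,3,4,3,4],
  [3,4,3,3,4,2,4],
  [3,3,0,4,3,0,2],
  [2,2,0,2,2,4,2,0],
  [3,0,4,2,2,4,2],
  [2,2,4,2,2,0,2,0,2,4],
  [2,0,4,2,2,0,4,2,2],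
  [0,2,2,4,2,0,2,4],
  [2,2,2,0,3,0,4,3,4,2],
  [3,4,3,3,0],
  [2,0,4,2,2,4,3,3],
  [3,3,4,3,0,4,2,2,0,3,3],
  [0,3,3,4,3,0,2,4,2],
  [3,3,4,3,0,4,3,3],
  [2,2,2,0,3,0,4,3],
  [0,3,3,4,3,0,4],
  [0,2,2,2,0,2,0,4,2],
  [2,0,4,2,2,4,2,4,2],
  [0,2,2,0,4,2,0,4,2,2,2],
  [2,2,2,4,3,0,2,4,2,4],
  [2,2,2,4,2,0,3],
  [0,3,4,3,3,4,2,2,0,4],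
  [0,2,4,2,2,0,3,3,4,2]]

/-- Conjugating words, part 18. -/
def orbit18 : List (List ℕ) := [
  [0,3,4,3,3,4,3,0,2],
  [2,4,2,0,2,2,0,4,2],
  [2,2,0,4,2,2,0],
  [2,2,4,2,4,2,0,3],
  [0,2,2,0,2,4,2,0,4,3],
  [3,3,0,3,0,2,0,4,2,4,3],
  [2,4,2,2,4,2,2,0,3],
  [3,4,3,0,3,4,2,2],
  [3,3,0,3,4,2,2,0,4,2],
  [0,2,2,0,4,3,3],
  [0,2,2,0,2,2,4],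
  [3,3,0,4,3,4,2,2,4],
  [0,2,2,4,2,4,3,3],
  [3,4,3,0,3,0,2],
  [2,2,0,4,2,0,3,0],
  [2,2,4,2,0,2,0],
  [0,2,4,2,0,2,4,2,4,3,4],
  [0,2,2,0,2,0,4,3,3,0,3],
  [3,3,4,3,4,3],
  [0,3,4,3,0,3,4,3,3],
  [0,3,0,4,2,2,2,4,3],
  [2,2,4,2,4,2,4,2],
  [0,2,4,2,0,2,0,4,2,2],
  [0,2,2,0,2,4,2,0],
  [2,0,4,2,2,4,2,2,2,0],
  [0,2,2,4,2,0,2,0,3],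
  [3,3,0,4,2,4,3],
  [0,2,2,2,0,4,3,3,0,2],
  [0,2,2,2,0,4,3,0,3],
  [2,0,4,2,2,0,4,3],
  [3,3,4,3,0,2,4],
  [2,2,0,4,2,4,3,3,0],
  [3,4,3,3,0,2,2,2],
  [2,0,4,2,2,4,2],
  [0,2,2,2,4,3,0,4],
  [2,2,2,4,2,0,4],
  [0,3,3,4,3,0,4,2,2,2],
  [2,0,4,2,2,2,4],
  [0,2,2,2,4,2,0,3,4,3],
  [3,3,4,3,0,4,2],
  [0,2,2,0,4,2,0,4],
  [2,2,2,4,2,0,3,4,3,4],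
  [0,3,4,3,3,0,2,2,4,2],
  [2,2,2,4,3,0],
  [0,3,4,3,3,0,2,0,4,3],
  [2,2,0,2,4,3,4,3,4],
  [2,4,2,0,2,2,0,4,3,3],
  [2,2,2,0,3,4,3,0,2],
  [2,0,4,3,3,0,3],
  [3,4,3,0,2,4,2,2,0,2],
  [2,0,4,2,2,4,3,3,4,3,3],
  [2,2,2,0,4,2,0,2],
  [0,2,2,2,0,4,3,4,3,4,3],
  [2,4,2,0,3,4,3,3,0],
  [0,3,3,0,3,0,4,3],
  [0,3,4,3,0,3,3,4],
  [2,4,2,0,2,2,4,3],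
  [2,0,4,3,3,0,3,4],
  [0,2,2,0,4,2,0,4,3],
  [2,2,2,0,4,3,0],
  [3,4,3,3,0,2,2,4,3],
  [0,3,3,0,3,0,4,2,2,0,2],
  [2,2,0,2,0,4,3,3],
  [0,2,2,0,2,0,3,4,3,0,4,2],
  [2,0,4,2,2,4,3,3,4,3],
  [0,2,4,2,0,2,2,4,3,4],
  [0,3,3,0,3,0,2,4,2,0,4],
  [0,2,2,0,2,0,4,3,3,0],
  [0,2,2,2,0,4,2,0,4,2],
  [2,2,2,0,4,3,0,3,3,4],
  [2,0,4,2,4,2,2],
  [0,3,3,0,4,3,3],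
  [0,2,2,0,4,2,2,2,0,2,0],
  [2,4,2,0,2,2,2,0],
  [3,3,4,3,4,2,2,0,3],
  [2,2,2,0,4,2,4,3,3,0],
  [2,2,2,0,4,3,4,3,3],
  [0,2,2,2,0,4,2,2,0,2,0,2],
  [3,4,3,0,3,0,4,3,0],
  [0,2,2,4,2,0,2,4,2,0,4],
  [0,2,2,4,2,2,0],
  [3,4,3,3,0,3,0,2,2],
  [0,2,2,0,4,2,2,2,4],
  [0,3,4,3,3,0,2],
  [0,2,2,2,4,3,4,3],
  [2,2,2,0,3,4,3,0,4],
  [2,2,0,2,2,0,4],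
  [0,2,2,4,2,2,0,2,4],
  [0,2,2,0,4,2,0,2,0],
  [0,2,0,4,2,0,4,2,2],
  [3,4,3,3,4,2,0,3],
  [2,0,4,2,2,4,2,4],
  [3,3,4,3,4,3,3],
  [2,4,2,0,2,4,2,2,2,0,3],
  [2,2,2,4,3,4,3,3],
  [2,2,0,2,0,3,4,3,4],
  [0,3,3,0,3,0,4,2],
  [2,2,2,0,2,0,3,4,3],
  [3,4,3,3,4,2,2,2],
  [3,0,4,3,4,3,0,2,2]]

/-- Conjugating words, part 19. -/
def orbit19 : List (List ℕ) := [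
  [0,2,2,2,0,2,0,4],
  [2,2,4,2,0,4,3],
  [0,2,4,2,0,2,4,2,0,3],
  [3,3,0,4,3,3,0,3,0,3],
  [3,4,3,0],
  [0,2,2,0,2,2,4,3,4],
  [0,3,3,0,3,4,3,4,3],
  [2,2,4,2,4,3,0],
  [2,2,4,2,4,3,4,3],
  [0,3,3,0,4,3,0,2,2],
  [3,4,3,0,3,0,2,0,3],
  [2,4,2,2,4,2,2,4,3,0],
  [0,2,4,2,0,2,0,3,0,2],
  [0,3,4,3,0,3,3],
  [0,2,2,2,4,2,0,3,3,4,2,2],
  [3,0,4,2,2,2],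
  [0,3,3,4,3,4,3,0,3,3],
  [2,4,2,0,2,4,2,4,3,4,3],
  [0,2,2,0,4,3,4,2],
  [2,0,4,2],
  [3,3,0,4,3,0,4],
  [0,2,2,4,2,4,2,0],
  [2,2,2,4,2,4,3,4,3],
  [3,4,3,0,3,4,3,0,2],
  [0,3,3,0,3,4,3,3,0,3],
  [3,0,4,2,2,0,4],
  [3,4,3,3,0,3,0,3,0],
  [3,4,3,0,2,2,4,2],
  [2,0,4,3,3,0,4,3,3],
  [0,3,0,4,2,2,4,2,2],
  [2,2,0,4,2,0,4,3,3],
  [2,2,4,2,4,3,4],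
  [0,3,3,0,3,4,3,4,2],
  [0,3,4,3,0,3,4,3,4,2],
  [2,4,2,2,4,3,4],
  [3,0,4],
  [0,2,2,2,4,2,0,3,3,4,3],
  [0,2,2,4,2,4,2,0,2,2,2],
  [2,2,0,2,0,2,4,3,4,3,3],
  [0,2,0,4,3,3,4,3],
  [2,0,4,3,3],
  [2,2,0,4,2,2,2,0,4,2],
  [2,2,2,0,4,2,0,4,2,2],
  [0,2,2,0,2,4,2,4],
  [2,4,2,0,3,3,4],
  [2,0,4,3,3,0,4,2],
  [2,4,2,0,2,2,2,0,4],
  [0,3,3,4,3,4,3,0,2],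
  [0,3,3,0,4,2,4],
  [2,2,0,4,2,0,4,2],
  [2,0,4,2,2,2,0,4],
  [2,4,2,0,2,4,2,0],
  [2,0,4,3,3,0,4,3],
  [0,3,3,0,3,4,3,4,3,3],
  [3,4,3,3,4,2,4,2],
  [0,2,4,2,0,2,4,2,4],
  [2,2,4,3,0],
  [0,2,2,4,2,0,3,4],
  [2,2,0,2,4,3,3,4,3],
  [2,0,4,3,3,4,3,0],
  [3,0,4,3,3,0,4,3],
  [2,4,2,2,0,2],
  [2,2,4,2,0,4,2,2,2],
  [0,3,4,3,3,0,2,2,4],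
  [2,0,4,2,2,4,2,0],
  [0,2,4,2,2,4,2,0],
  [2,2,2,0,2,0,4,2,4],
  [0,2,2,4,2,0,4,2],
  [2,2,2,4,2,0,3,3],
  [2,0,4,3,3,4],
  [0,3,3,0,4,3,0,4,3,3],
  [3,4,3,0,3,3,0,4],
  [2,2,2,0,2,0,4,2,2],
  [0,2,2,2,0,3,0,4],
  [2,0,4,2,4,2,4,2,2],
  [0,3,4,3,0,3,0,2,4,2,0],
  [2,2,0,2,4,2,4,3,0,4],
  [2,4,2,0,2,4,2,0,4],
  [0,3,3,4,3,0,3,0,2,2],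
  [0,3,3,4,3,0,2],
  [0,3,3,0,3,0,4,2,0],
  [2,2,0,2,0,2,4,2,0],
  [0,2,4,2,2,4,3,3,0,3,0],
  [0,3,4,3,0,3,0,4],
  [3,3,4,3,4,3,4,2],
  [0,2,2,2,4,3,4,3,3,0,2],
  [2,4,2,2,0,3,4,3,3],
  [2,4,2,2,4,3,3,4,3],
  [2,2,0,2,0,2,4,3],
  [0,3,3,0,3,4,3,3,4,2,2],
  [2,4,2,2,4,3,3,4,3,0,2],
  [0,2,4,2,0,2,0,3,0,4,3],
  [0,3,4,3,3,0,2,0,3,3],
  [3,3,0,3,0,4,2,0,2],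
  [0,2,4,2,0,2,4,2,4,2],
  [3,4,3,0,2,4,2,2],
  [2,4,2,2,4,3,0],
  [0,2,2,0,4,2,4,3,3,0,2],
  [3,3,0,3,0,2,0,4],
  [0,2,4,2,2,4,2,2,4,3]]

/-- Conjugating words, part 20. -/
def orbit20 : List (List ℕ) := [
  [3,4,3,3,4,3,3,4],
  [2,4,2,2,4,3,4,2],
  [2,2,0,2,4,2,4,3,0,3],
  [2,2,2,0,4,2],
  [0,2,2,0,2,4,2,2,4,2,2],
  [0,2,0,4,2,0,4,2],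
  [2,2,2,0,4,2,2,2],
  [2,2,2,4,2,4,2,0,2],
  [2,2,0,2,0,3,4,3,0,4],
  [3,4,3,0,3,0,2,4,2,0,3],
  [0,2,4,2,0,2,0,4,3,3],
  [0,2,0,4,2,4,2,4,2],
  [0,2,2,2,0,3,4,3,0],
  [0,2,4,2,2,0,2,2,0,2,2],
  [0,3,4,3,3,0,2,0,2,4],
  [2,4,2,0,2,2,0,4],
  [3,3,0,3,0,3,4,3],
  [2,2,0,2,0,4,3,4],
  [0,2,4,2,2,0,3,0],
  [0,3,3,0,3,0,2,4,2],
  [3,4,3,3,4,2,0,3,3],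
  [2,2,0,2,0,3,4,2,2],
  [3,4,3,3,0,2,4],
  [2,4,2,2,4,3,4,3],
  [0,2,4,2,0,2,4,2,4,3],
  [0,3,3,4,3,0,3,0,3],
  [0,3,3,4,3,4,3,4,2,0],
  [3,4,3,0,2,4,2,2,0,3,3],
  [0,2,4,2,2,0,4,3,0],
  [0,2,2,0,4,2,0,2,0,4],
  [3,3,4,3,0,2,4,2,0,2],
  [3,3,0,3,0,4],
  [0,2,2,0,2,0,4,3],
  [3,0,4,3,3,0,4,2,0],
  [2,2,2,0,4,2,0,3,3],
  [2,2,0,2,0,4,2],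
  [0,2,2,0,4,2,0,4,2,2],
  [0,3,3,0,4,2,2,2,0,3],
  [2,4,2,2,0,3,3,4,3],
  [0,2,2,0,2,0,3,4,3,0],
  [0,2,2,4,2,0,3,0,3,0],
  [2,4,2,0,2,4,2,2,2,0],
  [0,3,3,0,3,0,4,2,2],
  [2,0,4,2,4,2,4,2,4],
  [0,3,3,0,4,3,0,4,3],
  [2,4,2,0,2,0,4,2,2,0],
  [2,2,4,2,0,3,4,3,0],
  [2,0,4,2,2,2,4,3,0],
  [2,2,4,2,2,0,3,0,3,4],
  [0,3,4,3,0,3,0,3,0,2],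
  [0,2,2,0,2,2,4,3,0,4,3,3],
  [0,2,2,0,2,0,4,3,0,3,0,2],
  [0,2,4,2,0,2,0,2,0],
  [2,2,0,2,0,4,3,0,3,4],
  [3,0,4,3,3,0,2,0],
  [0,3,4,3,3,0,2,4,2,0,3],
  [0,2,4,2,2,4,2,2,0,3,4],
  [2,2,2,0,4,2,2,0,2,0,4],
  [3,3,0,3,0,2,0,2,4],
  [2,4,2,0,2,0,3,0],
  [0,2,2,0,2,4,2,4,2],
  [0,3,3,0,4,3,4],
  [0,3,3,0,3,4,3,4],
  [2,2,0,2,4,3,3,4],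
  [0,2,2,2,0,4,3,3,0,3],
  [0,2,4,2,0,2,0,3,4,2],
  [3,4,3,0,3,0,2,4,3],
  [0,3,4,3,0,3,0,2,4],
  [0,2,2,0,2,0,2,4,2,0],
  [0,2,4,2,0,3,4,3],
  [2,2,0,2,4,2,2,4,3],
  [0,2,2,2,0,4],
  [2,4,2,0,2,0,4,2],
  [3,0,4,3,3,4,3],
  [0,2,2,0,2,0,4,3,0],
  [0,2,2,4,2,4,2,4],
  [2,2,4,2,0,3,4,3,0,3],
  [2,2,2,4,2,4,2,2,0],
  [2,2,0,2,4,3,3,0,4,3],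
  [2,2,2,0,4,2,4,2,4,2,0],
  [3,3,0,4,3,4,2,2,0],
  [2,0,4,3,3,0,3,0,2],
  [0,3,4,3,3,4,2,0,2],
  [2,4,2,2,0,3,0,2,2,2],
  [2,0,4,3,3,4,3,3,0],
  [2,2,2,4,2,0,3,0,3],
  [0,2,2,0,2,0,3,4,3],
  [0,2,4,2,2,0,3,4,3],
  [3,4,3,0,3,4,3,4],
  [0,3,4,3,3,4,2,4],
  [0,2,2,2,0,2,0,4,2,4,3],
  [2,0,4,2,0,4,2,2,0,2],
  [3,0,4,2,2,2,4,2],
  [2,2,2,0,4,2,2,0,4],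
  [2,2,0,2,4,2,4,3,0,3,3],
  [0,2,2,2,0,4,2,0,2,2],
  [0,2,4,2,2,0,3,3,4],
  [2,2,2,4,2,0,2],
  [0,2,4,2,2,0,3,0,4,2,2],
  [2,2,0,4,3,4,2,2]]

/-- Conjugating words, part 21. -/
def orbit21 : List (List ℕ) := [
  [0,2,2,2,0,4,2,0,4],
  [0,2,2,2,4,2,0,4,2],
  [2,2,2,0,2,0,4,3],
  [2,2,4,2,0,4],
  [2,4,2,2,0,3,3],
  [2,2,2,0,4,2,0,2,2,4],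
  [0,2,2,2,0,4,2,2,0],
  [3,0,4,3,3,4],
  [2,2,4,2,0,4,3,3,0],
  [2,2,2,4,3,0,2,4],
  [0,2,2,4,2,0,4,3,3],
  [2,2,2,4,3,4,3,3,0,2],
  [0,2,4,2,2,0,3,4,3,3],
  [3,4,3,0,3,0,4],
  [0,3,3,4,3,4,3,4,2],
  [3,3,0,3,4,3,3,4,2,2],
  [0,2,4,2,2,4,3,3,4,3],
  [3,4,3,3,0,2,0,3,3],
  [0,2,2,0,2,4,2,4,3,0,3],
  [2,4,2,0,2,4,2,4,2],
  [3,0,4,2,2,0,2,0],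
  [0,2,4,2,2,4,3,4,2],
  [0,3,3,0,3,0,4,2,0,2],
  [2,2,0,4,2,4,3,3,0,2],
  [2,0,4,2,2,4,2,2],
  [0,3,4,3,0,2,4,2,2],
  [0,2,4,2,2,4,3,0],
  [2,4,2,0,2,0,3,0,4,3],
  [3,3,4,3,0,2,4,2,0,2,2],
  [0,2,2,2,0,4,2],
  [2,4,2,2,4,2,2,4,3],
  [0,3,4,3,3,4,3,3,4],
  [2,2,0,2,4,2,2,4,2,2],
  [2,0,4,2,0,4,2],
  [0,2,2,2,0,4,2,2,2],
  [2,4,2,2,0,2,2,0,2,2],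
  [3,4,3,3,0,2,0,2,4],
  [0,2,4,2,0,2,2,0,4],
  [2,2,4,2,0,4,3,3,0,2,2],
  [0,3,3,0,3,0,3,4,3],
  [2,4,2,0,2,0,4,3,3],
  [2,2,2,0,3,4,3,0],
  [2,0,4,2,4,2,4,2],
  [0,2,2,2,4,2,4,2,0,2],
  [0,2,2,0,2,0,3,4,3,0,4],
  [0,3,4,3,3,4,2,0,3,3],
  [0,2,2,0,2,0,4,3,4],
  [2,4,2,2,0,3,0],
  [3,3,0,3,0,2,4,2],
  [0,2,2,0,2,0,3,4,2,2],
  [0,3,4,3,3,0,2,4],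
  [0,2,4,2,2,4,3,4,3],
  [2,4,2,0,2,4,2,4,3],
  [3,3,0,4,3,0,3,3],
  [2,2,0,4,2,0],
  [0,2,2,0,2,0,4,3,0,2],
  [2,2,2,0,2,4,2,4],
  [2,0,4,2,4,2,0,3,3,0,3],
  [0,3,3,4,3,4,3,3],
  [0,2,2,2,4,3,4,3,3],
  [2,2,4,2,2,0,2,0,2,2],
  [0,3,4,3,0],
  [2,2,0,2,2,4,3,4],
  [3,3,4,3,0,3,0,2,0],
  [0,3,4,3,3,4,2,2,2],
  [2,4,2,0,2,4,2,0,3],
  [2,2,2,0,2,4,3,4],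
  [3,3,4,3,4,2,4],
  [0,2,2,0,2,0,3,4,3,4],
  [3,3,0,3,4,3,4,3],
  [0,3,4,3,0,3,0,2,0,3],
  [3,4,3,0,3,4,2,2,2],
  [3,3,0,3,0,4,2],
  [2,4,2,0,2,0,3,0,2],
  [0,2,4,2,2,4,2,2,4,3,0],
  [0,2,2,4,2,0,4,3],
  [2,2,2,0,2,0,4],
  [3,3,0,4,3,0,2,2],
  [0,2,2,0,2,0,4,2,0],
  [2,4,2,0,2,0,2,0],
  [0,2,2,0,2,0,4,3,0,3,4],
  [2,2,0,2,0,4,3,0,3,0,2],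
  [2,2,0,2,2,4,3,0,4,3,3],
  [3,4,3,0,3,0,3,0,2],
  [2,2,2,0,4,2,2,0,2,2],
  [2,2,0,4,2,0,3,0,4],
  [3,3,0,3,4,2,2,0],
  [3,3,0,4,3,4],
  [3,4,3,3,0,2,4,2,0,3],
  [2,4,2,2,4,2,2,0,3,4],
  [2,2,2,0,3,0,3,3,4],
  [2,4,2,2,4,2,2,4,3,0,3],
  [2,2,0,2,4,2,4,2],
  [2,4,2,0,2,0,3,4,2],
  [2,2,2,0,4,3,3,0,3],
  [0,2,4,2,0,2,0,3,0],
  [3,3,0,3,4,3,4],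
  [3,4,3,0,3,0,2,4],
  [0,3,4,3,0,3,0,2,4,3],
  [2,0,4,2,2,0,3,4]]

/-- The conjugating words of the orbit of the third generator, by increasing key. -/
def orbitParts : List (List (List ℕ)) := [orbit0, orbit1, orbit2, orbit3, orbit4, orbit5, orbit6, orbit7, orbit8, orbit9, orbit10, orbit11, orbit12, orbit13, orbit14, orbit15, orbit16, orbit17, orbit18, orbit19, orbit20, orbit21]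

end CfsgLib.HNRec.Normal
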