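import Cfsg.Agent.Lib.HNRec.Normal.Alt
import Cfsg.Agent.Lib.Known.AltAut

/-!
# The common centraliser is the product of the four-group and the alternating group
-/

set_option autoImplicit false

namespace CfsgLib.HNRec.Normal

open Equiv

variable {G : Type} [Group G] {t a b c : G}

/-- The four central elements. -/
def four (t c : G) : Fin 4 → G := ![1, t, c, t * c]

theorem perm_ext {p q : Perm (Fin 8)}
    (h : ∀ x, MulAut.conjNormal p x = (MulAut.conjNormal q x : alternatingGroup (Fin 8))) : p = q :=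
  (CfsgLib.Known.AltAut.bijective_conjNormal (by decide) (by decide)).1 (MulEquiv.ext h)

theorem conj_val (x₀ x : alternatingGroup (Fin 8)) :
    MulAut.conjNormal (x₀ : Perm (Fin 8)) x = x₀ * x * x₀⁻¹ := Subtype.ext (by simp [MulAut.conjNormal_apply])

theorem four_mul (B : Basics t a c) : ∀ k l : Fin 4, ∃ j, four t c k * four t c l = four t c j ∧ (j = 0 → k = l) := by
  have e1 : t * (t * c) = c := by rw [← mul_assoc, B.tt, one_mul]
  have e2 : c * (t * c) = t := by rw [B.tc, ← mul_assoc, B.cc, one_mul]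
  have e3 : t * c * t = c := by rw [B.tc, mul_assoc, B.tt, mul_one]
  have e4 : t * c * c = t := by rw [mul_assoc, B.cc, mul_one]
  intro k l
  fin_cases k <;> fin_cases l
  · exact ⟨0, one_mul _, fun _ => rfl⟩
  · exact ⟨1, one_mul _, by decide⟩
  · exact ⟨2, one_mul _, by decide⟩
  · exact ⟨3, one_mul _, by decide⟩
  · exact ⟨1, mul_one _, by decide⟩
  · exact ⟨0, B.tt, fun _ => rfl⟩
  · exact ⟨3, rfl, by decide⟩
  · exact ⟨2, e1, by decide⟩
  · exact ⟨2, mul_one _, by decide⟩
  · exact ⟨3, B.tc.symm, by decide⟩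
  · exact ⟨0, B.cc, fun _ => rfl⟩
  · exact ⟨1, e2, by decide⟩
  · exact ⟨3, mul_one _, by decide⟩
  · exact ⟨2, e3, by decide⟩
  · exact ⟨1, e4, by decide⟩
  · exact ⟨0, by show t * c * (t * c) = 1; rw [mul_assoc, e2, B.tt], fun _ => rfl⟩

theorem four_sq (B : Basics t a c) (k : Fin 4) : four t c k * four t c k = 1 := by
  fin_cases k
  · exact one_mul _
  · exact B.tt
  · exact B.cc
  · show t * c * (t * c) = 1
    rw [mul_assoc, ← mul_assoc c, ← B.tc, mul_assoc, B.cc, mul_one, B.tt]

theorem four_mem (B : Basics t a c) (k : Fin 4) : four t c k ∈ dSub t c := by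
  have h1 : t ∈ dSub t c := mem_dSub.2 ⟨rfl, B.tc⟩
  have h2 : c ∈ dSub t c := mem_dSub.2 ⟨B.tc.symm, rfl⟩
  fin_cases k
  exacts [one_mem _, h1, h2, mul_mem h1 h2]

theorem four_comm (k : Fin 4) {g : G} (hg : g ∈ dSub t c) : four t c k * g = g * four t c k := by
  obtain ⟨e1, e2⟩ := mem_dSub.1 hg
  fin_cases k
  · simp [four]
  · exact e1.symm
  · exact e2.symm
  · show t * c * g = g * (t * c)
    rw [mul_assoc, ← e2, ← mul_assoc, ← e1, mul_assoc]

variable (ι : alternatingGroup (Fin 8) →* G)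

theorem four_meet (hK : Coord t a b c) (B : Basics t a c) (hinj : Function.Injective ι)
    (hD : ∀ x, ι x ∈ dSub t c) {k : Fin 4} {x : alternatingGroup (Fin 8)} (h : four t c k = ι x) :
    k = 0 ∧ x = 1 := by
  have hx : ∀ y, x * y = y * x := fun y => hinj (by rw [map_mul, map_mul, ← h]; exact four_comm k (hD y))
  have h1 : (x : Perm (Fin 8)) = 1 := perm_ext fun y => by
    rw [map_one, MulAut.one_apply, conj_val, hx y, mul_inv_cancel_right]
  have hx1 : x = 1 := Subtype.ext h1
  rw [hx1, map_one] at h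
  refine ⟨?_, hx1⟩
  fin_cases k
  · rfl
  · exact absurd h hK.ne
  · exact absurd h B.c_ne
  · refine absurd ?_ B.ct_ne
    have h' : t * c = 1 := h
    rw [← one_mul c, ← B.tt, mul_assoc, h', mul_one]

theorem decomp [Finite G] (hK : Coord t a b c) (B : Basics t a c) (hinj : Function.Injective ι)
    (hD : ∀ x, ι x ∈ dSub t c) : ∀ g ∈ dSub t c, ∃ k x, g = four t c k * ι x := by
  let Φ : Fin 4 × alternatingGroup (Fin 8) → dSub t c := fun p =>
    ⟨four t c p.1 * ι p.2, mul_mem (four_mem B _) (hD _)⟩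
  have hΦ : Function.Injective Φ := by
    rintro ⟨k, x⟩ ⟨l, y⟩ h
    have h' : four t c k * ι x = four t c l * ι y := congrArg Subtype.val h
    obtain ⟨j, hj, hj0⟩ := four_mul B l k
    have e : four t c j = ι (y * x⁻¹) := by
      rw [map_mul, map_inv, eq_mul_inv_iff_mul_eq, ← hj, mul_assoc, h', ← mul_assoc, four_sq B, one_mul]
    obtain ⟨rfl, hxy⟩ := four_meet ι hK B hinj hD e
    rw [mul_inv_eq_one] at hxy
    exact Prod.ext (hj0 rfl).symm hxy.symm
  have hcard : Nat.card (dSub t c) ≤ Nat.card (Fin 4 × alternatingGroup (Fin 8)) := by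
    refine (card_dSub_le hK).trans (le_of_eq ?_)
    rw [Nat.card_prod, Nat.card_fin, nat_card_alternatingGroup, Nat.card_fin]
    decide
  intro g hg
  obtain ⟨⟨k, x⟩, hp⟩ := (hΦ.bijective_of_nat_card_le hcard).2 ⟨g, hg⟩
  exact ⟨k, x, (congrArg Subtype.val hp).symm⟩

/-- An element of the product centralising the alternating group is one of the four. -/
theorem central_mem [Finite G] (hK : Coord t a b c) (B : Basics t a c) (hinj : Function.Injective ι)
    (hD : ∀ x, ι x ∈ dSub t c) {g : G} (hg : g ∈ dSub t c) (hcen : ∀ x, g * ι x * g⁻¹ = ι x) :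
    ∃ k, g = four t c k := by
  obtain ⟨k, x₀, rfl⟩ := decomp ι hK B hinj hD g hg
  refine ⟨k, ?_⟩
  have hx : ∀ x, x₀ * x * x₀⁻¹ = x := fun x => hinj (by
    have e := hcen x
    rw [show four t c k * ι x₀ * ι x * (four t c k * ι x₀)⁻¹ =
        four t c k * (ι x₀ * ι x * (ι x₀)⁻¹) * (four t c k)⁻¹ by group,
      ← map_inv, ← map_mul, ← map_mul, four_comm k (hD _), mul_inv_cancel_right] at e
    exact e)
  have h1 : (x₀ : Perm (Fin 8)) = 1 := perm_ext fun y => by
    rw [map_one, MulAut.one_apply, conj_val, hx]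
  rw [show x₀ = 1 from Subtype.ext h1, map_one, mul_one]

end CfsgLib.HNRec.Normal
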